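import Cfsg.Agent.Mrg.Omega.ThmC.FourMain
import Cfsg.Agent.Mrg.Omega.ThmC.TwoData
import Cfsg.Agent.Mrg.Omega.ThmC.FourOf
import Cfsg.Agent.Mrg.Omega.IId.Cv.Half
import Cfsg.Agent.Mrg.Omega.IId.Fac

-- merged: Cfsg.Agent.Mrg.Omega.IId.ThmCQ.Cnt
section

/-!
# THEOREM C with `D`, case `q ≥ 4`, (4), (5): supports of size 1, the count (helper399 #19922, helper914 #20115,
helper653 #19789)

`Fam ρ S h Z p WW` : `WW i` (`i : Fin k`) are 2-subgroups of `N`, permuted by `S` like the `Z i`, normalised by the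
`h l`; an element of `WW i` which commutes with the `h l` and is trivial on the `C_l` for all `l ≠ a` normalises all
`WW c`, `c ≠ a`.

* `Fam.bot` : `WW i = ⊥` for all `i`.
-/

set_option autoImplicit false
set_option linter.unusedSectionVars false
set_option linter.unusedVariables false

namespace Cfsg.Agent.Omega.IId.ThmCQ

open Subgroup Cfsg Cfsg.Agent.Omega.ThmC.Four Cfsg.Agent.MinSimple.VModule
open Cfsg.Agent.ZN (o2)
open Cfsg.Agent.Omega.ThmC.Four.Abs (Perm Perm.mul conj_eps pow_fix conj_eps_apply sq_apply fix_im exists_conj_le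
  card_map_conj stabC mem_stabC inv_apply inv_apply' range_eq pair_mem_DD)
open Cfsg.Agent.Omega.IId.ThmCD (levels nor_o2 le_sylow_of_normalized card_le_sylow)

universe u

section gen

variable {N A : Type u} [Group N] [AddCommGroup A] (ρ : N →* AddMonoid.End A) {k : ℕ} (Z : Fin k → AddSubgroup A)

/-- `n` maps `Z i` onto `Z j`. -/
def MapZ (n : N) (i j : Fin k) : Prop := ∀ a, a ∈ Z i ↔ ρ n a ∈ Z j

variable {ρ Z}

theorem rho_inv (n : N) (a : A) : ρ n (ρ n⁻¹ a) = a := by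
  rw [← rho_mul, mul_inv_cancel, rho_one]

theorem rho_inv' (n : N) (a : A) : ρ n⁻¹ (ρ n a) = a := by
  rw [← rho_mul, inv_mul_cancel, rho_one]

theorem rho_inj {n : N} {a b : A} (h : ρ n a = ρ n b) : a = b := by
  rw [← rho_inv' (ρ := ρ) n a, h, rho_inv']

theorem MapZ.inv {n : N} {i j : Fin k} (h : MapZ ρ Z n i j) : MapZ ρ Z n⁻¹ j i := by
  intro a
  rw [h, rho_inv]

theorem MapZ.mul {m n : N} {i j l : Fin k} (h : MapZ ρ Z n i j) (h' : MapZ ρ Z m j l) : MapZ ρ Z (m * n) i l := by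
  intro a
  rw [h, h', rho_mul]

theorem MapZ.one (i : Fin k) : MapZ ρ Z 1 i i := by
  intro a
  rw [rho_one]

theorem nor_conj {s x : N} {X Y : Subgroup N} (h : ∀ w, w ∈ X ↔ s * w * s⁻¹ ∈ Y) (hx : x ∈ normalizer (X : Set N)) :
    s * x * s⁻¹ ∈ normalizer (Y : Set N) := by
  rw [mem_normalizer_iff] at hx ⊢
  intro y
  have h1 : y ∈ Y ↔ s⁻¹ * y * s ∈ X := by
    rw [h]
    have e : s * (s⁻¹ * y * s) * s⁻¹ = y := by group
    rw [e]
  rw [h1, hx, h]
  have e : s * (x * (s⁻¹ * y * s) * x⁻¹) * s⁻¹ = s * x * s⁻¹ * y * (s * x * s⁻¹)⁻¹ := by group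
  rw [e]

theorem card_mul_le [Finite N] {X Y Z : Subgroup N} (hX : X ≤ Z) (hY : Y ≤ Z) (hXY : X ⊓ Y = ⊥) :
    Nat.card X * Nat.card Y ≤ Nat.card Z := by
  have h1 : Function.Injective fun g : X × Y => (g.1 : N) * g.2 := mul_injective_of_disjoint (disjoint_iff.2 hXY)
  rw [← Nat.card_prod]
  refine Nat.card_le_card_of_injective (fun g : X × Y => (⟨(g.1 : N) * g.2, mul_mem (hX g.1.2) (hY g.2.2)⟩ : Z)) ?_
  intro a b hab
  exact h1 (congrArg Subtype.val hab)

end gen

namespace AbsD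

variable {N A : Type u} [Group N] [Finite N] [AddCommGroup A] [Finite A] {ρ : N →* AddMonoid.End A}
  {S : Sylow 2 N} {k : ℕ} {h : Fin k → N} {Z : Fin k → AddSubgroup A} {p : ℕ}

theorem Z_disj (d : AbsD ρ S h Z p) {i j : Fin k} (hij : i ≠ j) {a : A} (hi : a ∈ Z i) (hj : a ∈ Z j) : a = 0 :=
  d.Zfpf i a hi (d.Zcent j i hij.symm a hj)

theorem exists_Z (d : AbsD ρ S h Z p) (i : Fin k) : ∃ a ∈ Z i, a ≠ 0 := by
  obtain ⟨a, ha⟩ := AddSubgroup.ne_bot_iff_exists_ne_zero.1 (d.Zne i)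
  exact ⟨a, a.2, fun h => ha (Subtype.ext h)⟩

theorem map_unique (d : AbsD ρ S h Z p) {n : N} {i j j' : Fin k} (h1 : MapZ ρ Z n i j) (h2 : MapZ ρ Z n i j') :
    j = j' := by
  by_contra hne
  obtain ⟨a, ha, ha0⟩ := d.exists_Z i
  have h3 := d.Z_disj hne ((h1 a).1 ha) ((h2 a).1 ha)
  exact ha0 (rho_inj (ρ := ρ) (n := n) (by rw [h3, map_zero]))

theorem perm_of_map (d : AbsD ρ S h Z p) {s : N} {σ : Equiv.Perm (Fin k)} (hs : Perm h s σ) {i j : Fin k}
    (hm : MapZ ρ Z s i j) : σ i = j := by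
  by_contra hne
  obtain ⟨a, ha, ha0⟩ := d.exists_Z i
  apply ha0
  refine d.Zfpf i a ha ?_
  obtain ⟨r, hr⟩ := hs i
  have h1 : ρ (h (σ i) ^ r) (ρ s a) = ρ s a :=
    pow_fix (d.Zcent j (σ i) (Ne.symm hne) _ ((hm a).1 ha)) ⟨r, zpow_natCast _ _⟩
  rw [← hr, ← rho_mul, inv_mul_cancel_right, rho_mul] at h1
  exact rho_inj h1

/-- an element of `S` in a `D^`-invariant 2-group which normalises all `⟨h l⟩` is trivial -/
theorem eq_one_of_S (d : AbsD ρ S h Z p) {X : Subgroup N} (hX : IsPGroup 2 X) (hh : ∀ l, h l ∈ normalizer (X : Set N))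
    {w : N} (hwS : w ∈ (S : Subgroup N)) (hw : w ∈ X) (hr' : ∀ l, ∃ r : ℕ, w * h l * w⁻¹ = h l ^ r) : w = 1 := by
  refine d.field w hwS fun l => ?_
  obtain ⟨r, hr⟩ := hr' l
  have h1 : w * (h l * w⁻¹ * (h l)⁻¹) ∈ X :=
    mul_mem hw ((mem_normalizer_iff.1 (hh l) w⁻¹).1 (inv_mem hw))
  have h2 : w * (h l * w⁻¹ * (h l)⁻¹) = h l ^ r * (h l)⁻¹ := by rw [← hr]; group
  have h3 : (w * (h l * w⁻¹ * (h l)⁻¹)) ^ p = 1 := by
    rw [h2]
    exact d.DD_pow _ (mul_mem (pow_mem (h_mem_DD h l) r) (inv_mem (h_mem_DD h l)))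
  have h4 : w * (h l * w⁻¹ * (h l)⁻¹) = 1 := by
    obtain ⟨n, hn⟩ := hX ⟨_, h1⟩
    have h5 : (w * (h l * w⁻¹ * (h l)⁻¹)) ^ 2 ^ n = 1 := congrArg Subtype.val hn
    have h6 : orderOf (w * (h l * w⁻¹ * (h l)⁻¹)) ∣ Nat.gcd p (2 ^ n) :=
      Nat.dvd_gcd (orderOf_dvd_of_pow_eq_one h3) (orderOf_dvd_of_pow_eq_one h5)
    have h7 : Nat.Coprime p (2 ^ n) :=
      Nat.Coprime.pow_right n ((Nat.coprime_primes d.prime Nat.prime_two).2 d.odd)
    rw [h7.gcd_eq_one] at h6
    exact orderOf_eq_one_iff.1 (Nat.dvd_one.1 h6)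
  calc w * h l = w * (h l * w⁻¹ * (h l)⁻¹) * h l * w := by group
    _ = h l * w := by rw [h4, one_mul]

end AbsD

/-- The family `WW i`. -/
structure Fam {N A : Type u} [Group N] [Finite N] [AddCommGroup A] [Finite A] (ρ : N →* AddMonoid.End A)
    (S : Sylow 2 N) {k : ℕ} (h : Fin k → N) (Z : Fin k → AddSubgroup A) (p : ℕ) (WW : Fin k → Subgroup N) : Prop where
  d : AbsD ρ S h Z p
  two : ∀ i, IsPGroup 2 (WW i)
  zperm : ∀ s ∈ (S : Subgroup N), ∀ i, ∃ j, MapZ ρ Z s i j
  trans : ∀ i j, ∃ s ∈ (S : Subgroup N), MapZ ρ Z s i j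
  conj : ∀ s ∈ (S : Subgroup N), ∀ i j, MapZ ρ Z s i j → ∀ w, w ∈ WW i ↔ s * w * s⁻¹ ∈ WW j
  hn : ∀ l i, h l ∈ normalizer (WW i : Set N)
  norm : ∀ i a, ∀ u ∈ WW i, (∀ l, l ≠ a → u * h l = h l * u) →
    (∀ l, l ≠ a → ∀ x, ρ u (eps ρ h l x) = eps ρ h l x) → ∀ c, c ≠ a → u ∈ normalizer (WW c : Set N)

namespace Fam

variable {N A : Type u} [Group N] [Finite N] [AddCommGroup A] [Finite A] {ρ : N →* AddMonoid.End A}
  {S : Sylow 2 N} {k : ℕ} {h : Fin k → N} {Z : Fin k → AddSubgroup A} {p : ℕ} {WW : Fin k → Subgroup N}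
  (F : Fam ρ S h Z p WW)

/-- `U_a^i` -/
def U (_ : Fam ρ S h Z p WW) (i a : Fin k) : Subgroup N := WW i ⊓ centralizer (h '' {a}ᶜ)

include F

theorem mem_U {i a : Fin k} {u : N} : u ∈ F.U i a ↔ u ∈ WW i ∧ ∀ l, l ≠ a → u * h l = h l * u := by
  rw [U, mem_inf, mem_centralizer_iff]
  refine and_congr_right fun _ => ⟨fun h1 l hl => (h1 _ ⟨l, hl, rfl⟩).symm, ?_⟩
  rintro h1 _ ⟨l, hl, rfl⟩
  exact (h1 l hl).symm

/-- the elements of `S` which normalise all `⟨h l⟩` normalise the `WW i` -/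
theorem S_norm {s : N} (hs : s ∈ (S : Subgroup N)) {i : Fin k} (hr : ∀ l, ∃ r : ℕ, s * h l * s⁻¹ = h l ^ r) :
    s ∈ normalizer (WW i : Set N) := by
  obtain ⟨j, hj⟩ := F.zperm s hs i
  have h1 : (1 : Equiv.Perm (Fin k)) i = j := F.d.perm_of_map (σ := 1) hr hj
  rw [← h1] at hj
  rw [mem_normalizer_iff]
  exact F.conj s hs i _ hj

/-- `C_{WW i}(D^) = 1` -/
theorem hfix {i : Fin k} : ∀ w ∈ WW i, (∀ l, w * h l = h l * w) → w = 1 := fun _ hw hc =>
  F.d.eq_one_of_eps (F.two i) (fun l => F.hn l i) (fun _ hs hr => F.S_norm hs hr) hw fun l => F.d.commute_eps (hc l)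

theorem conj_U {i a : Fin k} {u : N} (hu : u ∈ F.U i a) : h a * u * (h a)⁻¹ ∈ F.U i a := by
  rw [mem_U] at hu ⊢
  refine ⟨(mem_normalizer_iff.1 (F.hn a i) u).1 hu.1, fun l hl => ?_⟩
  have h1 := hu.2 l hl
  have h2 := F.d.hcomm a l
  have h3 : (h a)⁻¹ * h l = h l * (h a)⁻¹ := by
    rw [inv_mul_eq_iff_eq_mul, ← mul_assoc, h2, mul_inv_cancel_right]
  calc h a * u * (h a)⁻¹ * h l = h a * u * ((h a)⁻¹ * h l) := by group
    _ = h a * (u * h l) * (h a)⁻¹ := by rw [h3]; group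
    _ = (h a * h l) * u * (h a)⁻¹ := by rw [h1]; group
    _ = h l * (h a * u * (h a)⁻¹) := by rw [h2]; group

/-- `U = [U, h a]` -/
theorem exists_comm {i a : Fin k} {u : N} (hu : u ∈ F.U i a) : ∃ v ∈ F.U i a, v * (h a * v⁻¹ * (h a)⁻¹) = u := by
  let f : F.U i a → F.U i a := fun v => ⟨v * (h a * (v : N)⁻¹ * (h a)⁻¹), mul_mem v.2 (F.conj_U (inv_mem v.2))⟩
  have hf : Function.Injective f := by
    intro v v' hv
    have h1 : (v : N) * (h a * (v : N)⁻¹ * (h a)⁻¹) = v' * (h a * (v' : N)⁻¹ * (h a)⁻¹) := congrArg Subtype.val hv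
    have h2 : (v' : N)⁻¹ * v ∈ F.U i a := mul_mem (inv_mem v'.2) v.2
    have h4 : (v : N) * h a * (v : N)⁻¹ = v' * h a * (v' : N)⁻¹ := by
      have h5 : (v : N) * h a * (v : N)⁻¹ * (h a)⁻¹ = v' * h a * (v' : N)⁻¹ * (h a)⁻¹ := by
        simpa only [mul_assoc] using h1
      exact mul_right_cancel h5
    have h3 : (v' : N)⁻¹ * v * h a = h a * ((v' : N)⁻¹ * v) := by
      calc (v' : N)⁻¹ * v * h a = (v' : N)⁻¹ * (v * h a * (v : N)⁻¹) * v := by group
        _ = (v' : N)⁻¹ * (v' * h a * (v' : N)⁻¹) * v := by rw [h4]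
        _ = h a * ((v' : N)⁻¹ * v) := by group
    have h5 : (v' : N)⁻¹ * v = 1 := by
      refine F.hfix _ (F.mem_U.1 h2).1 fun l => ?_
      by_cases hl : l = a
      · rw [hl]; exact h3
      · exact (F.mem_U.1 h2).2 l hl
    apply Subtype.ext
    rw [inv_mul_eq_one] at h5
    exact h5.symm
  obtain ⟨v, hv⟩ := Finite.surjective_of_injective hf ⟨u, hu⟩
  exact ⟨v, v.2, congrArg Subtype.val hv⟩

/-- `U_a^i` is trivial on `C_c`, `c ≠ a` -/
theorem U_triv {i a c : Fin k} (hc : c ≠ a) {u : N} (hu : u ∈ F.U i a) (x : A) :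
    ρ u (eps ρ h c x) = eps ρ h c x := by
  obtain ⟨v, hv, rfl⟩ := F.exists_comm hu
  have h1 : ∀ y, ρ (h a) (eps ρ h c y) = eps ρ h c y := fun y => F.d.h_eps_apply hc.symm (F.d.idem_apply c y)
  have h2 : ρ v⁻¹ (eps ρ h c x) = eps ρ h c (ρ v⁻¹ x) :=
    F.d.commute_eps_apply ((F.mem_U.1 (inv_mem hv)).2 c hc) x
  rw [rho_mul, rho_mul, rho_mul, inv_apply (h1 x), h2, h1, ← h2, rho_inv]

/-- `U_a^i` normalises `WW c`, `c ≠ a` -/
theorem U_norm {i a c : Fin k} (hc : c ≠ a) : F.U i a ≤ normalizer (WW c : Set N) := fun u hu =>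
  F.norm i a u (F.mem_U.1 hu).1 (F.mem_U.1 hu).2 (fun l hl x => F.U_triv hl hu x) c hc

theorem U_conj {s : N} (hs : s ∈ (S : Subgroup N)) {i j a b : Fin k} (hi : MapZ ρ Z s i j) (ha : MapZ ρ Z s a b)
    {u : N} (hu : u ∈ F.U i a) : s * u * s⁻¹ ∈ F.U j b := by
  rw [mem_U] at hu ⊢
  refine ⟨(F.conj s hs i j hi u).1 hu.1, fun m hm => ?_⟩
  obtain ⟨τ, hτ⟩ := F.d.perm s⁻¹ (inv_mem hs)
  have h1 : τ b = a := F.d.perm_of_map hτ ha.inv
  have h2 : τ m ≠ a := fun h => hm (τ.injective (h.trans h1.symm))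
  obtain ⟨r, hr⟩ := hτ m
  rw [inv_inv] at hr
  have h3 : u * h (τ m) ^ r = h (τ m) ^ r * u := (show Commute u (h (τ m)) from hu.2 _ h2).pow_right r
  rw [← hr] at h3
  calc s * u * s⁻¹ * h m = s * (u * (s⁻¹ * h m * s)) * s⁻¹ := by group
    _ = s * (s⁻¹ * h m * s * u) * s⁻¹ := by rw [h3]
    _ = h m * (s * u * s⁻¹) := by group

theorem U_two {i a : Fin k} : IsPGroup 2 (F.U i a) := (F.two i).to_le inf_le_left

/-- `|U_a^i| ≥ 4` -/
theorem four_le {i a : Fin k} (hne : F.U i a ≠ ⊥) : 4 ≤ Nat.card (F.U i a) := by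
  have : Fact (Nat.Prime 2) := ⟨Nat.prime_two⟩
  obtain ⟨n, hn⟩ := IsPGroup.iff_card.1 (F.U_two (i := i) (a := a))
  obtain ⟨w, hw, hw1⟩ := (Subgroup.bot_or_exists_ne_one _).resolve_left hne
  have h2 : 2 ≤ n := by
    by_contra hcon
    have h3 : n = 0 ∨ n = 1 := by omega
    rcases h3 with rfl | rfl
    · rw [pow_zero, Subgroup.card_eq_one] at hn
      exact hne hn
    · rw [pow_one] at hn
      apply hw1
      refine F.hfix w (F.mem_U.1 hw).1 fun l => ?_
      by_cases hl : l = a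
      · subst hl
        have h4 : (⟨h l * w * (h l)⁻¹, F.conj_U hw⟩ : F.U i l) = ⟨w, hw⟩ := by
          obtain ⟨y, -, hy⟩ := (Nat.card_eq_two_iff' (1 : F.U i l)).1 hn
          rw [hy ⟨w, hw⟩ fun h => hw1 (congrArg Subtype.val h)]
          refine hy _ fun hy1 => hw1 ?_
          have h5 : h l * w * (h l)⁻¹ = 1 := congrArg Subtype.val hy1
          rw [conj_eq_one_iff] at h5
          exact h5
        have h5 : h l * w * (h l)⁻¹ = w := congrArg Subtype.val h4
        calc w * h l = (h l * w * (h l)⁻¹) * h l := by rw [h5]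
          _ = h l * w := by group
      · exact (F.mem_U.1 hw).2 l hl
  calc 4 = 2 ^ 2 := by norm_num
    _ ≤ 2 ^ n := Nat.pow_le_pow_right (by norm_num) h2
    _ = Nat.card (F.U i a) := hn.symm

/-! ### The normalisers -/

omit F in
/-- the intersection of the normalisers of the `WW c`, `c ∈ Γ` -/
def KK (WW : Fin k → Subgroup N) (Γ : Set (Fin k)) : Subgroup N := ⨅ c : Γ, normalizer (WW c : Set N)

omit F [Finite N] in
theorem mem_KK {Γ : Set (Fin k)} {x : N} : x ∈ KK WW Γ ↔ ∀ c ∈ Γ, x ∈ normalizer (WW c : Set N) := by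
  rw [KK, mem_iInf]
  exact ⟨fun h c hc => h ⟨c, hc⟩, fun h c => h c c.2⟩

theorem U_le {Γ : Set (Fin k)} {i a : Fin k} (hi : i ∈ Γ) (ha : ∀ c ∈ Γ, c ≠ i → c ≠ a) :
    F.U i a ≤ o2 (KK WW Γ) := by
  have h1 : WW i ⊓ KK WW Γ ≤ o2 (KK WW Γ) := by
    refine le_o2 inf_le_right ((F.two i).to_le inf_le_left) fun x hx => ?_
    exact ThmCD.nor_inf (mem_KK.1 hx i hi) (le_normalizer hx)
  refine le_trans (le_inf inf_le_left fun u hu => mem_KK.2 fun c hc => ?_) h1
  by_cases hci : c = i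
  · rw [hci]
    exact le_normalizer (F.mem_U.1 hu).1
  · exact F.U_norm (ha c hc hci) hu

theorem h_mem_KK (Γ : Set (Fin k)) (l : Fin k) : h l ∈ KK WW Γ := mem_KK.2 fun c _ => F.hn l c

/-- **The diagonal** `U_i^i = 1`. -/
theorem U_diag (i : Fin k) : F.U i i = ⊥ := by
  rw [eq_bot_iff]
  intro u hu
  rw [mem_bot]
  have hS : (S : Subgroup N) ≤ normalizer (KK WW Set.univ : Set N) := by
    have key : ∀ s ∈ (S : Subgroup N), ∀ x ∈ KK WW Set.univ, s * x * s⁻¹ ∈ KK WW Set.univ := by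
      intro s hs x hx
      refine mem_KK.2 fun c _ => ?_
      obtain ⟨j, hj⟩ := F.zperm s⁻¹ (inv_mem hs) c
      have hj' := hj.inv
      rw [inv_inv] at hj'
      exact nor_conj (F.conj s hs j c hj') (mem_KK.1 hx j (Set.mem_univ _))
    intro s hs
    rw [mem_normalizer_iff]
    intro x
    refine ⟨key s hs x, fun hx => ?_⟩
    have h1 := key s⁻¹ (inv_mem hs) _ hx
    have e : s⁻¹ * (s * x * s⁻¹) * s⁻¹⁻¹ = x := by group
    rwa [e] at h1
  have hRS : o2 (KK WW Set.univ) ≤ S := le_sylow_of_normalized S (o2_isPGroup _) fun s hs => nor_o2 (hS hs)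
  have huR : u ∈ o2 (KK WW Set.univ) := F.U_le (Set.mem_univ i) (fun c _ hc => hc) hu
  have huS := hRS huR
  refine F.d.eq_one_of_S (o2_isPGroup _) (fun l => le_normalizer_o2 _ (F.h_mem_KK _ l)) huS huR fun l => ?_
  obtain ⟨σ, hσ⟩ := F.d.perm u huS
  have h1 : ∀ l, l ≠ i → σ l = l := by
    intro l hl
    obtain ⟨j, hj⟩ := F.zperm u huS l
    have h2 : σ l = j := F.d.perm_of_map hσ hj
    obtain ⟨a, ha, ha0⟩ := F.d.exists_Z l
    have h3 : ρ u a = a := by
      have := F.U_triv hl hu a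
      rwa [F.d.eps_Z ha] at this
    have h4 := (hj a).1 ha
    rw [h3] at h4
    rw [h2]
    by_contra hne
    exact ha0 (F.d.Z_disj hne h4 ha)
  have h2 : σ i = i := by
    by_contra hne
    exact hne (σ.injective (h1 _ hne))
  have h3 : σ l = l := by
    by_cases hl : l = i
    · rw [hl]; exact h2
    · exact h1 l hl
  obtain ⟨r, hr⟩ := hσ l
  exact ⟨r, by rw [hr, h3]⟩

/-- **The count.** -/
theorem count_false {i a : Fin k} (hai : a ≠ i) (hne : F.U i a ≠ ⊥) : False := by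
  classical
  have : Fact (Nat.Prime 2) := ⟨Nat.prime_two⟩
  have d := F.d
  -- the action of `S` on `Fin k`
  choose f hf using fun (s : (S : Subgroup N)) (l : Fin k) => F.zperm s s.2 l
  let act : MulAction (S : Subgroup N) (Fin k) :=
    { smul := f
      one_smul := fun l => d.map_unique (hf 1 l) (MapZ.one l)
      mul_smul := fun s t l => d.map_unique (hf (s * t) l) ((hf t l).mul (hf s (f t l))) }
  have hz : ∀ (s : (S : Subgroup N)) (l : Fin k), MapZ ρ Z (s : N) l (s • l) := hf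
  have htr' : ∀ b c : Fin k, ∃ s : (S : Subgroup N), s • b = c := by
    intro b c
    obtain ⟨s, hs, e⟩ := F.trans b c
    exact ⟨⟨s, hs⟩, d.map_unique (hz ⟨s, hs⟩ b) e⟩
  obtain ⟨Γ, ⟨s₀, hs₀⟩, hΓ, hcard⟩ := levels S.2 htr' (o := i) (j := a) (j' := a) hai hai
  set JJ : Set (Fin k) := {b : Fin k | ∃ s : (S : Subgroup N), s • i ∈ Γ ∧ (b = s • a ∨ b = s • a)} with hJJ
  set R : Subgroup N := o2 (KK WW Γ) with hR
  let RT : Set (Fin k) → Subgroup N := fun T => R ⊓ centralizer (h '' Tᶜ)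
  have hRT : ∀ {T T' : Set (Fin k)}, T ⊆ T' → RT T ≤ RT T' := fun {T T'} h =>
    inf_le_inf_left _ (centralizer_le (Set.image_mono (Set.compl_subset_compl.2 h)))
  -- the conjugates of `U`
  have hU : ∀ s : (S : Subgroup N), s • i ∈ Γ → F.U (s • i) (s • a) ≤ R := fun s hs =>
    F.U_le hs fun c hc _ e => (hΓ s hs).1 (e ▸ hc)
  have hU1 : ∀ s : (S : Subgroup N), F.U (s • i) (s • a) ≠ ⊥ := by
    intro s hbot
    apply hne
    rw [eq_bot_iff]
    intro u hu
    have h1 := F.U_conj s.2 (hz s i) (hz s a) hu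
    rw [hbot, mem_bot, conj_eq_one_iff] at h1
    rw [h1]
    exact one_mem _
  -- the chain
  have hchain : ∀ T : Finset (Fin k), (∀ b ∈ T, b ∈ JJ) → 4 ^ T.card ≤ Nat.card (RT ↑T) := by
    intro T
    induction T using Finset.induction_on with
    | empty =>
      intro _
      rw [Finset.card_empty, pow_zero]
      exact Nat.card_pos
    | insert b T hb ih =>
      intro hT
      have h1 := ih fun c hc => hT c (Finset.mem_insert_of_mem hc)
      obtain ⟨s, hs, hbs⟩ := hT b (Finset.mem_insert_self b T)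
      have hbs' : b = s • a := by rcases hbs with h | h <;> exact h
      have h2 : F.U (s • i) (s • a) ≤ RT ↑(insert b T) := by
        refine le_inf (hU s hs) (inf_le_right.trans (centralizer_le (Set.image_mono ?_)))
        rw [Set.compl_subset_compl, Set.singleton_subset_iff, Finset.mem_coe, ← hbs']
        exact Finset.mem_insert_self b T
      have h3 : RT ↑T ≤ RT ↑(insert b T) := hRT (Finset.coe_subset.2 (Finset.subset_insert b T))
      have h4 : RT ↑T ⊓ F.U (s • i) (s • a) = ⊥ := by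
        rw [eq_bot_iff]
        rintro u ⟨⟨-, hu1⟩, hu2⟩
        rw [mem_bot]
        replace hu2 := F.mem_U.1 hu2
        refine F.hfix u hu2.1 fun l => ?_
        by_cases hl : l = s • a
        · refine (mem_centralizer_iff.1 hu1 (h l) ⟨l, ?_, rfl⟩).symm
          rw [hl, ← hbs', Set.mem_compl_iff, Finset.mem_coe]
          exact hb
        · exact hu2.2 l hl
      rw [Finset.card_insert_of_notMem hb, pow_succ]
      exact (Nat.mul_le_mul h1 (F.four_le (hU1 s))).trans (card_mul_le h3 h2 h4)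
  have h2k : 2 ^ k ≤ Nat.card R := by
    have hfin : JJ.Finite := Set.toFinite _
    have h1 := hchain hfin.toFinset fun b hb => hfin.mem_toFinset.1 hb
    have h2 : hfin.toFinset.card = JJ.ncard := (Set.ncard_eq_toFinset_card JJ hfin).symm
    have h3 : k ≤ 2 * hfin.toFinset.card := by
      rw [h2]
      have := hcard
      rwa [Nat.card_eq_fintype_card, Fintype.card_fin] at this
    calc 2 ^ k ≤ 2 ^ (2 * hfin.toFinset.card) := Nat.pow_le_pow_right (by norm_num) h3
      _ = 4 ^ hfin.toFinset.card := by rw [pow_mul]; norm_num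
      _ ≤ _ := h1
      _ ≤ Nat.card R := Subgroup.card_le_of_le inf_le_left
  -- the kernel
  set K₀ : Subgroup (S : Subgroup N) := (MulAction.toPermHom (S : Subgroup N) (Fin k)).ker with hK₀
  set S₀ : Subgroup N := K₀.map (S : Subgroup N).subtype with hS₀
  have hS₀' : ∀ s ∈ S₀, s ∈ (S : Subgroup N) ∧ ∀ l, MapZ ρ Z s l l := by
    rintro _ ⟨s, hs, rfl⟩
    refine ⟨s.2, fun l => ?_⟩
    have h1 : s • l = l := congrArg (fun σ : Equiv.Perm (Fin k) => σ l) hs
    have h2 := hz s l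
    rwa [h1] at h2
  have hpr : ∀ s ∈ S₀, ∀ l, ∃ r : ℕ, s * h l * s⁻¹ = h l ^ r := by
    intro s hs l
    obtain ⟨σ, hσ⟩ := d.perm s (hS₀' s hs).1
    obtain ⟨r, hr⟩ := hσ l
    exact ⟨r, by rw [hr, d.perm_of_map hσ ((hS₀' s hs).2 l)]⟩
  have hS₀K : S₀ ≤ normalizer (R : Set N) := by
    refine le_trans (fun s hs => ?_) (le_normalizer_o2 _)
    exact mem_KK.2 fun c _ => F.S_norm (hS₀' s hs).1 (hpr s hs)
  have hbot : S₀ ⊓ R = ⊥ := by
    rw [eq_bot_iff]
    rintro s ⟨hs, hsR⟩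
    rw [mem_bot]
    exact d.eq_one_of_S (o2_isPGroup _) (fun l => le_normalizer_o2 _ (F.h_mem_KK _ l)) (hS₀' s hs).1 hsR (hpr s hs)
  have hcS : Nat.card S₀ * Nat.card R ≤ Nat.card (S : Subgroup N) := by
    have h1 : IsPGroup 2 S₀ := S.2.to_le fun s hs => (hS₀' s hs).1
    have h6 : IsPGroup 2 ↥(S₀ ⊔ R) := h1.to_sup_of_normal_right' (o2_isPGroup _) hS₀K
    exact (card_mul_le le_sup_left le_sup_right hbot).trans (card_le_sylow S h6)
  have hcard₀ : Nat.card S₀ = Nat.card K₀ :=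
    Nat.card_congr (K₀.equivMapOfInjective _ (S : Subgroup N).subtype_injective).toEquiv.symm
  have hRle : Nat.card R ≤ K₀.index := by
    refine Nat.le_of_mul_le_mul_left ?_ (Nat.card_pos (α := K₀))
    rw [K₀.card_mul_index, ← hcard₀]
    exact hcS
  have hdvd : K₀.index ∣ k.factorial := by
    rw [hK₀, index_ker]
    have h1 := card_subgroup_dvd_card (MulAction.toPermHom (S : Subgroup N) (Fin k)).range
    rwa [Nat.card_perm, Nat.card_eq_fintype_card (α := Fin k), Fintype.card_fin] at h1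
  obtain ⟨e, he⟩ : ∃ e, K₀.index = 2 ^ e := (S.2 : IsPGroup 2 (S : Subgroup N)).index _
  have hk : k ≠ 0 := by
    rintro rfl
    exact i.elim0
  have h6 : k ≤ e := by
    have h7 : 2 ^ k ≤ 2 ^ e := by
      rw [← he]
      exact h2k.trans hRle
    exact (Nat.pow_le_pow_iff_right (by norm_num)).1 h7
  have h7 : e ≤ padicValNat 2 k.factorial := by
    rw [← padicValNat_dvd_iff_le (Nat.factorial_ne_zero _), ← he]
    exact hdvd
  have h8 := sub_one_mul_padicValNat_factorial_lt_of_ne_zero 2 hk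
  omega

/-- **THEOREM C with `D`, case `q ≥ 4`, in `N = N_G(E) / C_G(E)`.** -/
theorem bot (i : Fin k) : WW i = ⊥ := by
  by_contra hne
  obtain ⟨a, w, hw, hw1, hwc⟩ := F.d.exists_single (F.two i) hne (fun l => F.hn l i) F.hfix
  have hU : w ∈ F.U i a := F.mem_U.2 ⟨hw, hwc⟩
  by_cases hai : a = i
  · subst hai
    rw [F.U_diag, mem_bot] at hU
    exact hw1 hU
  · refine F.count_false hai fun h => hw1 ?_
    rw [h, mem_bot] at hU
    exact hU

end Fam

end Cfsg.Agent.Omega.IId.ThmCQ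

end

-- merged: Cfsg.Agent.Mrg.Omega.IId.ThmCQ.Fix
section

section


/-!
# THEOREM C with `D`, case `q ≥ 4`: from the data in `G` to the data in `N_G(E) / C_G(E)`

* `DatD.abs` : the data `AbsD` for the image of `N_G(E)` in `MulAut E`, `E = Ω₁ Z(L)` (after helper334's
  `ThmC/FourFix.lean`);
* `DatD.main'` : 2-subgroups `W i` of `G` which are permuted by `N_G(E)` like the `Z i` centralise `E`;
* `DatD.main` : **`O₂(N_G(Z i))` centralises `E`**.
-/

set_option autoImplicit false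
set_option linter.unusedSectionVars false

namespace Cfsg.Agent.Omega.IId.ThmCQ

open Subgroup Cfsg Cfsg.Agent.ZN Cfsg.Agent.Omega.ThmC.Four
open Cfsg.Agent.MinSimple.VModule (mem_zc zc_le zc_comm zc_sq normalizer_le_normalizer_zc le_centralizer_zc
  zc_le_centralizer)
open Cfsg.Agent.Omega.ThmC.Four.Dat (phi NN phi_apply cl_surj cl_eq commE rho rho_apply ad mem_ad)

universe u

variable {G : Type u} [Group G] [Finite G]

attribute [local instance] commE

namespace DatD

variable {S : Sylow 2 G} {L : Subgroup G} {k : ℕ} {Z : Fin k → Subgroup G} {h : Fin k → G} {p : ℕ}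
  (D : DatD S L Z h p)

include D

theorem S_le : (S : Subgroup G) ≤ normalizer (zc L : Set G) := D.nor.trans (normalizer_le_normalizer_zc L)

theorem h_mem (l : Fin k) : h l ∈ normalizer (zc L : Set G) := normalizer_le_normalizer_zc L (D.hL l)

/-- the image of `h l`. -/
noncomputable abbrev hh (D : DatD S L Z h p) (l : Fin k) : NN (zc L) := (phi (zc L)).rangeRestrict ⟨h l, D.h_mem l⟩

/-- the image of `S`. -/
noncomputable abbrev SS (D : DatD S L Z h p) : Sylow 2 (NN (zc L)) :=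
  haveI : Fact (Nat.Prime 2) := ⟨Nat.prime_two⟩
  (S.subtype D.S_le).mapSurjective (cl_surj (zc L))

theorem mem_SS {n : NN (zc L)} : n ∈ (D.SS : Subgroup (NN (zc L))) ↔
    ∃ s, ∃ hs : s ∈ (S : Subgroup G), (phi (zc L)).rangeRestrict ⟨s, D.S_le hs⟩ = n := by
  constructor
  · rintro ⟨s, hs, rfl⟩
    exact ⟨s, hs, rfl⟩
  · rintro ⟨s, hs, rfl⟩
    exact ⟨⟨s, D.S_le hs⟩, hs, rfl⟩

/-- **the data in `N_G(E) / C_G(E)`** -/
theorem abs : AbsD (rho L) D.SS D.hh (fun l => ad L (Z l)) p where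
  two a := by
    apply Additive.toMul.injective
    apply Subtype.ext
    have h1 := zc_sq L _ (Additive.toMul a).2
    rw [pow_two] at h1
    exact h1
  inj := by
    intro a b hab
    apply Subtype.ext
    apply MulEquiv.ext
    intro e
    exact congrArg (fun f : AddMonoid.End (Additive (zc L)) => Additive.toMul (f (Additive.ofMul e))) hab
  prime := D.prime
  odd := D.odd
  hcomm l m := by
    rw [← map_mul, ← map_mul, cl_eq]
    exact D.hcomm l m
  hp l := by
    rw [← map_pow, ← map_one (phi (zc L)).rangeRestrict, cl_eq]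
    exact D.hp l
  perm := by
    intro s hs'
    obtain ⟨s, hs, rfl⟩ := D.mem_SS.1 hs'
    obtain ⟨σ, hσ⟩ := D.perm s hs
    refine ⟨σ, fun l => ?_⟩
    obtain ⟨r, hr⟩ := hσ l
    refine ⟨r, ?_⟩
    rw [← map_mul, ← map_inv, ← map_mul, ← map_pow, cl_eq]
    exact hr
  field := by
    intro s hs' hc
    obtain ⟨s, hs, rfl⟩ := D.mem_SS.1 hs'
    have h1 : s ∈ L := D.field s hs fun l => by
      have := hc l
      rw [← map_mul, ← map_mul, cl_eq] at this
      exact this
    rw [← map_one (phi (zc L)).rangeRestrict, cl_eq]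
    intro e he
    have h2 := (mem_zc.1 he).2.1 s h1
    simp [h2]
  Zne l hl := by
    apply D.Zne l
    rw [eq_bot_iff]
    intro z hz
    have h1 : Additive.ofMul (⟨z, D.ZE l hz⟩ : zc L) ∈ ad L (Z l) := hz
    rw [hl, AddSubgroup.mem_bot] at h1
    have h2 := congrArg (fun a : Additive (zc L) => ((Additive.toMul a : zc L) : G)) h1
    exact h2
  Znor l z hz := by
    rw [mem_ad] at hz ⊢
    exact ((mem_normalizer_iff.1 (D.Znor l)) _).1 hz
  Zfpf l z hz hfix := by
    apply Additive.toMul.injective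
    apply Subtype.ext
    refine D.Zfpf l _ hz ?_
    have h1 := congrArg (fun a : Additive (zc L) => ((Additive.toMul a : zc L) : G)) hfix
    have h2 : h l * ((Additive.toMul z : zc L) : G) * (h l)⁻¹ = ((Additive.toMul z : zc L) : G) := h1
    rw [← h2]
    simp only [h2]
    rw [mul_inv_eq_iff_eq_mul] at h2
    exact h2
  Zcent l m hlm z hz := by
    apply Additive.toMul.injective
    apply Subtype.ext
    have h1 : h m * ((Additive.toMul z : zc L) : G) = ((Additive.toMul z : zc L) : G) * h m := D.Zcent l m hlm _ hz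
    change h m * ((Additive.toMul z : zc L) : G) * (h m)⁻¹ = ((Additive.toMul z : zc L) : G)
    rw [h1, mul_inv_cancel_right]
  fix a ha := by
    have h1 : ((Additive.toMul a : zc L) : G) ∈ zc (S : Subgroup G) := by
      refine mem_zc.2 ⟨D.LS (zc_le L (Additive.toMul a).2), fun s hs => ?_, zc_sq L _ (Additive.toMul a).2⟩
      have h2 := ha _ (D.mem_SS.2 ⟨s, hs, rfl⟩)
      have h3 := congrArg (fun a : Additive (zc L) => ((Additive.toMul a : zc L) : G)) h2
      have h4 : s * ((Additive.toMul a : zc L) : G) * s⁻¹ = ((Additive.toMul a : zc L) : G) := h3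
      rw [mul_inv_eq_iff_eq_mul] at h4
      exact h4
    obtain ⟨x, hx, hxh, w, hw, hxw⟩ := D.fix _ h1
    have h3 : (⨆ l, Z l) ≤ (AddSubgroup.toSubgroup' (⨆ l, ad L (Z l))).map (zc L).subtype := by
      refine iSup_le fun l z hz => ?_
      exact ⟨⟨z, D.ZE l hz⟩, (le_iSup (fun l => ad L (Z l)) l) (show Additive.ofMul (⟨z, D.ZE l hz⟩ : zc L) ∈ _ from hz),
        rfl⟩
    obtain ⟨b, hb, hb'⟩ := h3 hw
    have h4 : a = Additive.ofMul (⟨x, hx⟩ : zc L) + Additive.ofMul b := by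
      apply Additive.toMul.injective
      apply Subtype.ext
      change ((Additive.toMul a : zc L) : G) = x * (b : G)
      rw [hxw]
      congr 1
      exact hb'.symm
    rw [h4]
    refine add_mem (AddSubgroup.mem_sup_left ?_) (AddSubgroup.mem_sup_right hb)
    intro l
    apply Additive.toMul.injective
    apply Subtype.ext
    change h l * x * (h l)⁻¹ = x
    rw [hxh l, mul_inv_cancel_right]

theorem h_nor (l i : Fin k) : h l ∈ normalizer (Z i : Set G) := by
  by_cases hli : i = l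
  · rw [hli]
    exact D.Znor l
  · rw [mem_normalizer_iff]
    intro z
    constructor
    · intro hz
      rw [D.Zcent i l hli z hz, mul_inv_cancel_right]
      exact hz
    · intro hz
      have h1 := D.Zcent i l hli _ hz
      have h2 : h l * z * (h l)⁻¹ = z := by
        have h3 : h l * (h l * z * (h l)⁻¹) = h l * z := by rw [h1]; group
        exact mul_left_cancel h3
      rwa [h2] at hz

/-- **THEOREM C with `D`, case `q ≥ 4`, on the data**: 2-subgroups `W i` which are permuted by `N_G(E)` like the `Z i`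
centralise `E = Ω₁ Z(L)`. -/
theorem main' {W : Fin k → Subgroup G} (hW : ∀ i, IsPGroup 2 (W i))
    (hc : ∀ g ∈ normalizer (zc L : Set G), ∀ i j, (∀ v, v ∈ Z i ↔ g * v * g⁻¹ ∈ Z j) →
      ∀ w, w ∈ W i ↔ g * w * g⁻¹ ∈ W j) (i : Fin k) : W i ≤ centralizer (zc L : Set G) := by
  -- the images of the `N_{W i}(E)`
  set WW : Fin k → Subgroup (NN (zc L)) := fun i =>
    ((W i).subgroupOf (normalizer (zc L : Set G))).map (phi (zc L)).rangeRestrict with hWW
  have hLC : L ≤ centralizer (zc L : Set G) := le_centralizer_zc L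
  have hLE : L ≤ normalizer (zc L : Set G) := hLC.trans (centralizer_le_normalizer _)
  -- maps
  have hmap : ∀ {g : G} (hg : g ∈ normalizer (zc L : Set G)) {i j : Fin k},
      MapZ (rho L) (fun l => ad L (Z l)) ((phi (zc L)).rangeRestrict ⟨g, hg⟩) i j ↔
        ∀ v, v ∈ Z i ↔ g * v * g⁻¹ ∈ Z j := by
    intro g hg i j
    constructor
    · intro hm v
      constructor
      · intro hv
        exact (hm (Additive.ofMul ⟨v, D.ZE i hv⟩)).1 hv
      · intro hv
        have h1 : v ∈ zc L := (mem_normalizer_iff.1 hg v).2 (D.ZE j hv)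
        exact (hm (Additive.ofMul ⟨v, h1⟩)).2 hv
    · intro hm a
      exact hm ((Additive.toMul a : zc L) : G)
  have hcj : ∀ {g : G} (hg : g ∈ normalizer (zc L : Set G)) {i j : Fin k}, (∀ v, v ∈ Z i ↔ g * v * g⁻¹ ∈ Z j) →
      ∀ n, n ∈ WW i ↔ (phi (zc L)).rangeRestrict ⟨g, hg⟩ * n * ((phi (zc L)).rangeRestrict ⟨g, hg⟩)⁻¹ ∈ WW j := by
    have key : ∀ {g : G} (hg : g ∈ normalizer (zc L : Set G)) {i j : Fin k}, (∀ v, v ∈ Z i ↔ g * v * g⁻¹ ∈ Z j) →
        ∀ n, n ∈ WW i → (phi (zc L)).rangeRestrict ⟨g, hg⟩ * n * ((phi (zc L)).rangeRestrict ⟨g, hg⟩)⁻¹ ∈ WW j := by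
      rintro g hg i j hm _ ⟨v, hv, rfl⟩
      rw [← map_inv, ← map_mul, ← map_mul]
      exact mem_map_of_mem _ ((hc g hg i j hm v).1 hv)
    intro g hg i j hm n
    refine ⟨key hg hm n, fun hn => ?_⟩
    have hm' : ∀ v, v ∈ Z j ↔ g⁻¹ * v * g⁻¹⁻¹ ∈ Z i := by
      intro v
      rw [hm]
      have e : g * (g⁻¹ * v * g⁻¹⁻¹) * g⁻¹ = v := by group
      rw [e]
    have h1 := key (inv_mem hg) hm' _ hn
    have h2 : (phi (zc L)).rangeRestrict ⟨g⁻¹, inv_mem hg⟩ = ((phi (zc L)).rangeRestrict ⟨g, hg⟩)⁻¹ := by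
      rw [← map_inv]; rfl
    rw [h2] at h1
    have e : ((phi (zc L)).rangeRestrict ⟨g, hg⟩)⁻¹ * ((phi (zc L)).rangeRestrict ⟨g, hg⟩ * n *
      ((phi (zc L)).rangeRestrict ⟨g, hg⟩)⁻¹) * ((phi (zc L)).rangeRestrict ⟨g, hg⟩)⁻¹⁻¹ = n := by group
    rwa [e] at h1
  have F : Fam (rho L) D.SS D.hh (fun l => ad L (Z l)) p WW := by
    refine ⟨D.abs, fun i => ((hW i).comap_of_injective _ (subtype_injective _)).map _, ?_, ?_, ?_, ?_, ?_⟩
    · intro s hs' i
      obtain ⟨s, hs, rfl⟩ := D.mem_SS.1 hs'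
      obtain ⟨m, hm⟩ := D.Zperm s hs i
      exact ⟨m, (hmap _).2 hm⟩
    · intro i j
      obtain ⟨s, hs, hm⟩ := D.trans i j
      exact ⟨_, D.mem_SS.2 ⟨s, hs, rfl⟩, (hmap _).2 hm⟩
    · intro s hs' i j hm
      obtain ⟨s, hs, rfl⟩ := D.mem_SS.1 hs'
      exact hcj _ ((hmap _).1 hm)
    · intro l i
      rw [mem_normalizer_iff]
      exact hcj _ (mem_normalizer_iff.1 (D.h_nor l i))
    · intro i a u hu _ htriv c hca
      have hu' := hu
      obtain ⟨⟨v, hvE⟩, hv, rfl⟩ := hu'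
      rw [mem_normalizer_iff]
      have h1 : ∀ z ∈ ad L (Z c), rho L ((phi (zc L)).rangeRestrict ⟨v, hvE⟩) z = z := by
        intro z hz
        have := htriv c hca z
        rwa [D.abs.eps_Z hz] at this
      refine hcj hvE ((hmap hvE).1 ?_)
      intro z
      constructor
      · intro hz
        rw [h1 z hz]
        exact hz
      · intro hz
        have h2 := h1 _ hz
        have h3 : rho L ((phi (zc L)).rangeRestrict ⟨v, hvE⟩) z = z := rho_inj h2
        rwa [h3] at hz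
  -- `WW i = 1`
  have hbot := F.bot i
  by_contra hcon
  have hL2 : IsPGroup 2 L := S.isPGroup'.to_le D.LS
  have hLW : L ≤ normalizer (W i : Set G) := by
    intro x hx
    rw [mem_normalizer_iff]
    refine hc x (hLE hx) i i fun v => ?_
    have h1 : x ∈ centralizer (Z i : Set G) := centralizer_le (D.ZE i) (hLC hx)
    exact (mem_normalizer_iff.1 (centralizer_le_normalizer _ h1)) v
  have hWL : IsPGroup 2 (W i ⊔ L : Subgroup G) := IsPGroup.to_sup_of_normal_left' (hW i) hL2 hLW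
  set K : Subgroup G := W i ⊓ centralizer (zc L : Set G) with hK
  have hKL : K ⊔ L < W i ⊔ L := by
    refine lt_of_le_of_ne (sup_le_sup_right inf_le_left L) fun he => hcon ?_
    have h1 : K ⊔ L ≤ centralizer (zc L : Set G) := sup_le inf_le_right hLC
    exact (le_sup_left.trans he.ge).trans h1
  obtain ⟨x, hx, hxK, hxn⟩ := exists_grow hWL hKL
  obtain ⟨w, hw, l, hl, rfl⟩ : ∃ w ∈ W i, ∃ l ∈ L, w * l = x := by
    have h1 : x ∈ ((W i ⊔ L : Subgroup G) : Set G) := hx
    rw [coe_mul_of_right_le_normalizer_left (W i) L hLW] at h1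
    obtain ⟨a, ha, b, hb, hab⟩ := h1
    exact ⟨a, ha, b, hb, hab⟩
  have hln : l ∈ normalizer ((K ⊔ L : Subgroup G) : Set G) := le_normalizer (mem_sup_right hl)
  have hwn : w ∈ normalizer ((K ⊔ L : Subgroup G) : Set G) := by
    have := mul_mem hxn (inv_mem hln)
    rwa [mul_inv_cancel_right] at this
  have hwK : w ∉ centralizer (zc L : Set G) := by
    intro hwc
    exact hxK (mul_mem (mem_sup_left ⟨hw, hwc⟩) (mem_sup_right hl))
  have hzc : zc (K ⊔ L) = zc L := by
    apply le_antisymm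
    · intro e he
      have h1 := mem_zc.1 he
      have h2 : e ∈ L := D.cL (mem_centralizer_iff.2 fun y hy => h1.2.1 y (mem_sup_right hy))
      exact mem_zc.2 ⟨h2, fun b hb => h1.2.1 b (mem_sup_right hb), h1.2.2⟩
    · intro e he
      have h1 := mem_zc.1 he
      refine mem_zc.2 ⟨mem_sup_right h1.1, fun b hb => ?_, h1.2.2⟩
      have h2 : b ∈ centralizer (zc L : Set G) := (sup_le inf_le_right hLC : K ⊔ L ≤ _) hb
      exact (mem_centralizer_iff.1 h2 e he).symm
  have hwE : w ∈ normalizer (zc L : Set G) := by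
    have := normalizer_le_normalizer_zc _ hwn
    rwa [hzc] at this
  apply hwK
  have h1 : (phi (zc L)).rangeRestrict ⟨w, hwE⟩ ∈ WW i := mem_map_of_mem _ (show w ∈ W i from hw)
  rw [hbot, mem_bot, ← map_one (phi (zc L)).rangeRestrict, cl_eq] at h1
  rw [mem_centralizer_iff]
  intro e he
  have h2 := h1 e he
  simp only [OneMemClass.coe_one, one_mul, inv_one, mul_one] at h2
  rw [mul_inv_eq_iff_eq_mul] at h2
  exact h2.symm

omit D in
theorem o2_conj {X Y : Subgroup G} {g : G} (hg : ∀ v, v ∈ X ↔ g * v * g⁻¹ ∈ Y) (w : G) :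
    w ∈ o2 (normalizer (X : Set G)) ↔ g * w * g⁻¹ ∈ o2 (normalizer (Y : Set G)) := by
  have h1 : ChoiceBase.cj g X = Y := by
    ext y
    rw [ChoiceBase.mem_cj, hg]
    have e : g * (g⁻¹ * y * g) * g⁻¹ = y := by group
    rw [e]
  rw [← h1, ← ChoiceBase.cj_normalizer, ChoiceBase.pCore_cj, ChoiceBase.mem_cj]
  have e : g⁻¹ * (g * w * g⁻¹) * g = w := by group
  rw [e]

/-- **THEOREM C with `D`, case `q ≥ 4`, on the data.** -/
theorem main (i : Fin k) : o2 (normalizer (Z i : Set G)) ≤ centralizer (zc L : Set G) :=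
  D.main' (W := fun i => o2 (normalizer (Z i : Set G))) (fun _ => MinSimple.VModule.o2_isPGroup _)
    (fun _ _ _ _ hm w => o2_conj hm w) i

end DatD

end Cfsg.Agent.Omega.IId.ThmCQ

end

section


/-!
# THEOREM C with `D`, `q ≥ 4`, `V_P = V × D`: the subgroup `S^L` (helper732)

`M : NatD F S P V D k`; `LS M` = the elements of `S` which act on `V` as elements of `SL₂(F)^k`.
The same facts as in `ThmC/FourOf.lean` (helper334; `V = V_P`, `D = 1`).
-/

set_option autoImplicit false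
set_option linter.unusedSectionVars false

namespace Cfsg.Agent.Omega.IId.ThmCQ.Sp

open Subgroup Cfsg Cfsg.Agent.ZN Cfsg.Agent.Omega.IId Cfsg.Agent.Omega.IId.NV Cfsg.Agent.Omega.ThmC.Four
open Cfsg.Agent.ZN.ChoiceBase hiding mem_zc
open Cfsg.Agent.Omega.MinPar Cfsg.Agent.Omega.FFThm
open Cfsg.Agent.MinSimple.VModule (le_normalizer_zl mem_zc zc_le zc_le_zl)
open Cfsg.Agent.Lib.SL2Mat
open Cfsg.Agent.Omega.NatPair (ap ap_mul ap_one ap_inv_ap ap_ap_inv exists_ap ap_add ap_inj ap_smul)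
open Cfsg.Agent.Omega.ThmC (le_centralizer_of_fixed)
open Cfsg.Agent.Omega.ThmC.FourOf (conj_sylow eq_one_of_pow tri_up dg_pow ap_pow_tri)

universe u

section basic

variable {G : Type u} [Group G] {F : Type} [Field F] {S P V : Subgroup G} {k : ℕ} {M : NatV F S P V k}

/-- the action determines the matrices -/
theorem acts_unique {g : G} {A B : Fin k → Matrix.SpecialLinearGroup (Fin 2) F}
    (hA : ActsSL M.e V ⊥ g A) (hB : ActsSL M.e V ⊥ g B) : A = B := by
  funext i
  refine ap_inj fun x => ?_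
  obtain ⟨v, hv, hx⟩ := NV.exists_fac M i x
  rw [← hx, ← hA.1 v hv.1 i, hB.1 v hv.1 i]

/-- the matrices determine the action -/
theorem acts_eq {g h : G} (hg : g ∈ P) (hh : h ∈ P) {A : Fin k → Matrix.SpecialLinearGroup (Fin 2) F}
    (hA : ActsSL M.e V ⊥ g A) (hB : ActsSL M.e V ⊥ h A) {v : G} (hv : v ∈ V) :
    g * v * g⁻¹ = h * v * h⁻¹ :=
  NV.e_inj M (NV.cj_mem M hg hv) (NV.cj_mem M hh hv) (funext fun i => by rw [hA.1 v hv i, hB.1 v hv i])

theorem acts_pow {g : G} (hg : g ∈ P) {A : Fin k → Matrix.SpecialLinearGroup (Fin 2) F}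
    (hA : ActsSL M.e V ⊥ g A) (n : ℕ) : ActsSL M.e V ⊥ (g ^ n) (A ^ n) := by
  induction n with
  | zero => rw [pow_zero, pow_zero]; exact NV.acts_one M
  | succ n ih => rw [pow_succ, pow_succ]; exact NV.acts_mul hg ih hA

theorem acts_of_cent {g : G} (hg : g ∈ centralizer (V : Set G)) : ActsSL M.e V ⊥ g 1 := by
  refine ⟨fun v hv i => ?_, fun d hd => ?_⟩
  · have h1 := mem_centralizer_iff.1 hg v hv
    have h2 : g * v * g⁻¹ = v := by rw [← h1]; group
    rw [h2, Pi.one_apply, ap_one]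
  · rw [mem_bot] at hd
    rw [hd]
    group

theorem cent_of_acts {g : G} (hg : g ∈ P) (hA : ActsSL M.e V ⊥ g 1) :
    g ∈ centralizer (V : Set G) := by
  rw [mem_centralizer_iff]
  intro v hv
  have h1 := acts_eq hg (one_mem P) hA (NV.acts_one M) hv
  have h2 : g * v * g⁻¹ = v := by rw [h1]; group
  calc v * g = (g * v * g⁻¹) * g := by rw [h2]
    _ = g * v := by group

/-- an element of 2-power order of `S` acting as an element of `SL₂(F)^k` is unipotent -/
theorem exists_up [CharP F 2] (hSP : S ≤ P) (hS : IsPGroup 2 S) {s : G} (hs : s ∈ S)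
    {A : Fin k → Matrix.SpecialLinearGroup (Fin 2) F} (hA : ActsSL M.e V ⊥ s A) :
    ∀ i, A i = up (ent (A i) 0 1) := by
  intro i
  have hsg : NV.sg M (hSP hs) i = i := by
    rw [← NV.mem_normalizer_fac_iff]
    exact NV.grp_normalizes M Set.univ {i} ⟨hSP hs, A, hA, fun j hj => absurd (Set.mem_univ j) hj⟩
  obtain ⟨v, hv, hve⟩ := NV.exists_fac M i ![1, 0]
  have h10 : ent (A i) 1 0 = 0 := by
    have h1 := (NV.e_conj_line M hSP hs hv.1 i).2 (by rw [hve]; rfl)
    rw [hsg, hA.1 v hv.1 i, hve, NatPair.ap_one'] at h1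
    simpa using h1
  have hap : ∀ j : ℕ, ap ((A i) ^ j) ![1, 0] = ![(ent (A i) 0 0) ^ j, 0] := by
    intro j
    induction j with
    | zero => rw [pow_zero, pow_zero, ap_one]
    | succ j ih =>
      have h2 : ap (A i) ![1, 0] = ent (A i) 0 0 • ![1, 0] := by
        apply NatPair.ext2
        · rw [NatPair.ap_zero']; simp
        · rw [NatPair.ap_one', h10]; simp
      rw [pow_succ, ap_mul, h2, ap_smul, ih]
      apply NatPair.ext2
      · simp [pow_succ, mul_comm]
      · simp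
  obtain ⟨n, hn⟩ := hS ⟨s, hs⟩
  have hn' : s ^ 2 ^ n = 1 := congrArg Subtype.val hn
  have h3 := acts_pow (hSP hs) hA (2 ^ n)
  rw [hn'] at h3
  have h4 := acts_unique h3 (NV.acts_one M)
  have h5 := congrFun h4 i
  have h6 := hap (2 ^ n)
  rw [Pi.pow_apply, Pi.one_apply] at h5
  rw [h5, ap_one] at h6
  have h7 : (ent (A i) 0 0) ^ 2 ^ n = 1 := (congrFun h6 0).symm
  have h00 := eq_one_of_pow h7
  have h11 : ent (A i) 1 1 = 1 := by
    have h8 := det_eq (A i)
    rw [h00, h10] at h8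
    simpa using h8
  apply ext_ent
  · rw [h00, up_00]
  · rw [up_01]
  · rw [h10, up_10]
  · rw [h11, up_11]

/-- elements acting as `up b` centralise the lines -/
theorem comm_lines {g : G} (hg : g ∈ P) {b : Fin k → F} (hA : ActsSL M.e V ⊥ g fun i => up (b i)) {v : G}
    (hv : v ∈ NV.lines M Set.univ) : g * v * g⁻¹ = v := by
  refine NV.e_inj M (NV.cj_mem M hg hv.1.1) hv.1.1 (funext fun i => ?_)
  rw [hA.1 v hv.1.1 i]
  apply NatPair.ext2
  · rw [NatPair.ap_zero', up_00, up_01, hv.2 i]; ring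
  · rw [NatPair.ap_one', up_10, up_11, hv.2 i]; ring

end basic

section main

variable {G : Type u} [Group G] [Finite G] {F : Type} [Field F] [Finite F] [CharP F 2] {S : Sylow 2 G}
  {P V D : Subgroup G} {k : ℕ} (M : NatD F S P V D k)

/-- `S^L`: the elements of `S` acting as elements of `SL₂(F)^k` -/
def LS : Subgroup G := (S : Subgroup G) ⊓ NV.grp M.toNatV Set.univ

variable {M}

theorem LS_le : LS M ≤ S := inf_le_left

theorem grp_univ_normal : P ≤ normalizer (NV.grp M.toNatV Set.univ : Set G) := by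
  intro g hg
  apply NV.normalizer_grp M.toNatV hg
  rw [NV.part_univ]
  exact M.nV hg

theorem S_le_normalizer_LS : (S : Subgroup G) ≤ normalizer (LS M : Set G) := by
  have h1 : (S : Subgroup G) ≤ normalizer ((S : Subgroup G) : Set G) := le_normalizer
  have h2 : (S : Subgroup G) ≤ normalizer (NV.grp M.toNatV Set.univ : Set G) := (NV.SP M).trans grp_univ_normal
  intro s hs
  rw [mem_normalizer_iff_cj]
  rw [LS, cj_inf, cj_eq_of_mem_normalizer (h1 hs), cj_eq_of_mem_normalizer (h2 hs)]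

theorem exists_b {s : G} (hs : s ∈ LS M) :
    ∃ b : Fin k → F, ActsSL M.e V ⊥ s fun i => up (b i) := by
  obtain ⟨hsS, hsP, A, hA, -⟩ := hs
  refine ⟨fun i => ent (A i) 0 1, ?_⟩
  have h1 : A = fun i => up (ent (A i) 0 1) :=
    funext fun i => exists_up (M := M.toNatV) (NV.SP M) S.isPGroup' hsS hA i
  rwa [← h1]

theorem mem_LS {s : G} (hs : s ∈ (S : Subgroup G))
    {A : Fin k → Matrix.SpecialLinearGroup (Fin 2) F}
    (hA : ActsSL M.e V ⊥ s A) : s ∈ LS M :=
  ⟨hs, NV.SP M hs, A, hA, fun i hi => absurd (Set.mem_univ i) hi⟩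

theorem mem_LS_of_cent {s : G} (hs : s ∈ (S : Subgroup G))
    (hc : s ∈ centralizer (V : Set G)) : s ∈ LS M :=
  mem_LS hs (acts_of_cent (M := M.toNatV) hc)

/-- `LS` is a maximal 2-subgroup of `grp M univ` -/
theorem LS_max {R : Subgroup G} (hR : IsPGroup 2 R) (h1 : LS M ≤ R)
    (h2 : R ≤ NV.grp M.toNatV Set.univ) : R = LS M := by
  obtain ⟨g, hg, hgS⟩ := Half.SymA.exists_conj_le S (NV.SP M) hR (h2.trans (NV.grp_le M.toNatV _))
  have h3 : cj g R ≤ LS M := by
    intro x hx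
    have hx' := mem_cj.1 hx
    have h4 : x = g * (g⁻¹ * x * g) * g⁻¹ := by group
    refine ⟨?_, ?_⟩
    · rw [h4]
      exact hgS _ hx'
    · rw [h4]
      exact (mem_normalizer_iff.1 (grp_univ_normal hg) _).1 (h2 hx')
  symm
  refine eq_of_le_of_card_ge h1 ?_
  calc Nat.card R = Nat.card (cj g R) := (card_cj g R).symm
    _ ≤ Nat.card (LS M) := Nat.card_le_card_of_injective _ (inclusion_injective h3)

theorem LS_isPGroup : IsPGroup 2 (LS M) := S.isPGroup'.to_le LS_le

/-! ### The ambient facts -/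

include M in
/-- `C_P(V)` centralises `V_P` -/
theorem cent_zl {x : G} (hxP : x ∈ P) (hxV : x ∈ centralizer (V : Set G)) :
    x ∈ centralizer (zl (S : Subgroup G) P : Set G) := by
  rw [mem_centralizer_iff]
  intro v hv
  obtain ⟨n, hn, d, hd, rfl⟩ := M.dec v hv
  have h1 := mem_centralizer_iff.1 hxV n hn
  have h2 := mem_centralizer_iff.1 (M.cD hxP) d hd
  calc n * d * x = n * (d * x) := by group
    _ = (n * x) * d := by rw [h2]; group
    _ = x * (n * d) := by rw [h1]; group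

theorem V_le_LS : V ≤ LS M := by
  intro v hv
  refine mem_LS_of_cent (NV.V_le_S M hv) ?_
  rw [mem_centralizer_iff]
  intro w hw
  exact NV.comm M.toNatV hw hv

theorem D_le_LS : D ≤ LS M := by
  intro d hd
  have hdz : d ∈ zl (S : Subgroup G) P := M.D_le hd
  have h1 : d ∈ (S : Subgroup G) := (NV.zl_le_zz M).trans ((zc_le _).trans (NV.o2_le_S M)) hdz
  refine mem_LS_of_cent h1 ?_
  rw [mem_centralizer_iff]
  intro w hw
  exact (mem_centralizer_iff.1 (M.cD (NV.SP M (NV.V_le_S M hw))) d hd).symm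

theorem D_le_zc : D ≤ zc (LS M) := by
  intro d hd
  rw [mem_zc]
  refine ⟨D_le_LS hd, fun s hs => ?_, ?_⟩
  · exact (mem_centralizer_iff.1 (M.cD (NV.SP M hs.1)) d hd).symm
  · exact (mem_zc.1 (NV.zl_le_zz M (M.D_le hd))).2.2

theorem o2_le_LS : o2 P ≤ LS M := by
  intro x hx
  refine mem_LS_of_cent (NV.o2_le_S M hx) ?_
  rw [mem_centralizer_iff]
  intro v hv
  exact ((mem_zc.1 (NV.V_le_zz M hv)).2.1 x hx).symm

include M in
/-- `C_G(O₂(P)) ≤ O₂(P)` -/
theorem cent_o2 : centralizer (o2 P : Set G) ≤ o2 P :=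
  ThmC.FourOf.cent_o2 M.hG M.star

theorem cent_LS : centralizer (LS M : Set G) ≤ LS M :=
  (centralizer_le o2_le_LS).trans ((cent_o2 (M := M)).trans o2_le_LS)

theorem lines_le_zc : NV.lines M.toNatV Set.univ ≤ zc (LS M) := by
  intro v hv
  rw [mem_zc]
  refine ⟨V_le_LS hv.1.1, fun s hs => ?_, ?_⟩
  · obtain ⟨b, hb⟩ := exists_b hs
    have := comm_lines (M := M.toNatV) (NV.SP M hs.1) hb hv
    calc s * v = (s * v * s⁻¹) * s := by group
      _ = v * s := by rw [this]
  · exact (mem_zc.1 (NV.V_le_zz M hv.1.1)).2.2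

/-- `Ω₁ Z(S) ≤ (sum of the lines) × D` -/
theorem zc_S_le {z : G} (hz : z ∈ zc (S : Subgroup G)) : ∃ v ∈ NV.lines M.toNatV Set.univ, ∃ d ∈ D, z = v * d := by
  obtain ⟨v, hv, d, hd, rfl⟩ := M.dec z (zc_le_zl _ P hz)
  refine ⟨v, ?_, d, hd, rfl⟩
  have hvS : ∀ s ∈ (S : Subgroup G), s * v = v * s := by
    intro s hs
    have h1 := (mem_zc.1 hz).2.1 s hs
    have h2 := mem_centralizer_iff.1 (M.cD (NV.SP M hs)) d hd
    have h3 : s * v * d = v * s * d := by
      calc s * v * d = s * (v * d) := by group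
        _ = v * (d * s) := by rw [h1]; group
        _ = v * s * d := by rw [h2]; group
    exact mul_right_cancel h3
  refine ⟨⟨hv, fun i hi => absurd (Set.mem_univ i) hi⟩, fun i => ?_⟩
  classical
  obtain ⟨t, ht, hact⟩ := M.unip (Function.update 0 i 1)
  have h2 : t * v * t⁻¹ = v := by rw [hvS t ht]; group
  have h3 := congrFun (hact.1 v hv i) 0
  rw [h2, NatPair.ap_zero'] at h3
  simp only [Function.update_self, up_00, up_01, one_mul] at h3
  exact left_eq_add.1 h3

/-- `C_P(V) ∩ N(S^L)` centralises `E = Ω₁ Z(S^L)` -/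
theorem cent_E : P ⊓ centralizer (V : Set G) ⊓ normalizer (LS M : Set G) ≤
    centralizer (zc (LS M) : Set G) := by
  have hnor : normalizer (LS M : Set G) ≤ normalizer (zc (LS M) : Set G) :=
    MinSimple.VModule.normalizer_le_normalizer_zc _
  refine le_centralizer_of_fixed (S := (S : Subgroup G)) (MinSimple.VModule.zc_comm _) (MinSimple.VModule.zc_sq _)
    (inf_le_right.trans hnor) ?_ S.isPGroup' (S_le_normalizer_LS.trans hnor) ?_ ?_
  · -- 2-elements
    rintro x ⟨⟨hxP, hxV⟩, hxN⟩ n hn a ha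
    have hx2 : IsPGroup 2 (zpowers x) := by
      rintro ⟨y, j, rfl⟩
      refine ⟨n, Subtype.ext ?_⟩
      change (x ^ j) ^ 2 ^ n = 1
      rw [← zpow_natCast, ← zpow_mul, mul_comm j, zpow_mul, zpow_natCast, hn, one_zpow]
    have hR : IsPGroup 2 (LS M ⊔ zpowers x : Subgroup G) :=
      IsPGroup.to_sup_of_normal_left' LS_isPGroup hx2 (zpowers_le.2 hxN)
    have h1 := LS_max hR le_sup_left (sup_le inf_le_right (zpowers_le.2
      ⟨hxP, 1, acts_of_cent (M := M.toNatV) hxV, fun _ _ => rfl⟩))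
    have h2 : x ∈ LS M := by
      rw [← h1]
      exact (le_sup_right : zpowers x ≤ _) (mem_zpowers x)
    exact (mem_zc.1 ha).2.1 x h2
  · -- `S` normalises the group
    have h1 : (S : Subgroup G) ≤ normalizer (P : Set G) := (NV.SP M).trans le_normalizer
    have h2 : (S : Subgroup G) ≤ normalizer (centralizer (V : Set G) : Set G) := by
      have h3 : (S : Subgroup G) ≤ normalizer (V : Set G) := (NV.SP M).trans M.nV
      intro s hs
      rw [mem_normalizer_iff_cj, cj_centralizer, cj_eq_of_mem_normalizer (h3 hs)]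
    have h3 : (S : Subgroup G) ≤ normalizer (normalizer (LS M : Set G) : Set G) := by
      intro s hs
      rw [mem_normalizer_iff_cj, cj_normalizer, cj_eq_of_mem_normalizer (S_le_normalizer_LS hs)]
    intro s hs
    rw [mem_normalizer_iff_cj, cj_inf, cj_inf, cj_eq_of_mem_normalizer (h1 hs), cj_eq_of_mem_normalizer (h2 hs),
      cj_eq_of_mem_normalizer (h3 hs)]
  · -- fixed points
    rintro a ha hfix x ⟨⟨hxP, hxV⟩, -⟩
    have h1 : a ∈ zc (S : Subgroup G) := by
      rw [mem_zc]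
      exact ⟨LS_le (zc_le _ ha), hfix, (mem_zc.1 ha).2.2⟩
    exact (mem_centralizer_iff.1 (cent_zl (M := M) hxP hxV) a (zc_le_zl _ P h1)).symm

/-- elements of `P ∩ N(S^L)` with the same action on `V` have the same action on `E` -/
theorem act_of_eq {x y : G} (hx : x ∈ P) (hxN : x ∈ normalizer (LS M : Set G)) (hy : y ∈ P)
    (hyN : y ∈ normalizer (LS M : Set G)) {A : Fin k → Matrix.SpecialLinearGroup (Fin 2) F}
    (hA : ActsSL M.e V ⊥ x A) (hB : ActsSL M.e V ⊥ y A) :
    Act (zc (LS M)) x y := by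
  have h1 : y⁻¹ * x ∈ centralizer (zc (LS M) : Set G) := by
    have h0 : y⁻¹ * x ∈ P := mul_mem (inv_mem hy) hx
    have h0' : y⁻¹ * x ∈ normalizer (LS M : Set G) := mul_mem (inv_mem hyN) hxN
    refine cent_E (M := M) ⟨⟨h0, cent_of_acts (M := M.toNatV) h0 ?_⟩, h0'⟩
    have := NV.acts_mul (M := M.toNatV) hx (NV.acts_inv (M := M.toNatV) hy hB) hA
    rwa [inv_mul_cancel] at this
  intro e he
  have h2 := mem_centralizer_iff.1 h1 e he
  calc x * e * x⁻¹ = y * ((y⁻¹ * x) * e) * x⁻¹ := by group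
    _ = y * (e * (y⁻¹ * x)) * x⁻¹ := by rw [h2]
    _ = y * e * y⁻¹ := by group

/-- the elements of `P` acting as unitriangular elements -/
def uni (M : NatD F S P V D k) : Subgroup G where
  carrier := {g | g ∈ P ∧ ∃ b : Fin k → F, ActsSL M.e V ⊥ g fun i => up (b i)}
  one_mem' := ⟨one_mem P, 0, by
    have : (fun i => up ((0 : Fin k → F) i)) = (1 : Fin k → Matrix.SpecialLinearGroup (Fin 2) F) :=
      funext fun i => up_zero
    rw [this]
    exact NV.acts_one M.toNatV⟩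
  mul_mem' := by
    rintro g h ⟨hg, b, hb⟩ ⟨hh, c, hc⟩
    refine ⟨mul_mem hg hh, b + c, ?_⟩
    have h1 := NV.acts_mul (M := M.toNatV) hh hb hc
    have : ((fun i => up (b i)) * fun i => up (c i)) = fun i => up ((b + c) i) :=
      funext fun i => up_mul _ _
    rwa [this] at h1
  inv_mem' := by
    rintro g ⟨hg, b, hb⟩
    refine ⟨inv_mem hg, -b, ?_⟩
    have h1 := NV.acts_inv (M := M.toNatV) hg hb
    have : (fun i => up (b i))⁻¹ = fun i => up ((-b) i) := funext fun i => up_inv _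
    rwa [this] at h1

/-- every upper triangular element of `SL₂(F)^k` is induced by an element of `P ∩ N(S^L)` -/
theorem exists_norm (A : Fin k → Matrix.SpecialLinearGroup (Fin 2) F) (hA : ∀ i, ent (A i) 1 0 = 0) :
    ∃ h ∈ P, h ∈ normalizer (LS M : Set G) ∧ ActsSL M.e V ⊥ h A := by
  obtain ⟨g, hg, hgA⟩ := M.lift A
  have hLU : LS M ≤ uni M := fun s hs => ⟨NV.SP M hs.1, exists_b hs⟩
  have hL'U : cj g (LS M) ≤ uni M := by
    intro x hx
    rw [mem_cj] at hx
    obtain ⟨b, hb⟩ := exists_b hx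
    have h1 := NV.acts_mul (M := M.toNatV) (inv_mem hg) (NV.acts_mul (M := M.toNatV) (NV.SP M hx.1) hgA hb)
      (NV.acts_inv (M := M.toNatV) hg hgA)
    have h2 : g * (g⁻¹ * x * g) * g⁻¹ = x := by group
    rw [h2] at h1
    refine ⟨?_, fun i => ent (A i) 0 0 ^ 2 * b i, ?_⟩
    · rw [← h2]
      exact mul_mem (mul_mem hg (NV.SP M hx.1)) (inv_mem hg)
    · have h3 : A * (fun i => up (b i)) * A⁻¹ = fun i => up (ent (A i) 0 0 ^ 2 * b i) :=
        funext fun i => tri_up (hA i) (b i)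
      rwa [h3] at h1
  have hmax : ∀ R : Subgroup G, IsPGroup 2 R → LS M ≤ R → R ≤ uni M → R = LS M := by
    intro R hR h1 h2
    refine LS_max hR h1 fun x hx => ?_
    obtain ⟨h3, b, hb⟩ := h2 hx
    exact ⟨h3, _, hb, fun i hi => absurd (Set.mem_univ i) hi⟩
  obtain ⟨c, ⟨hcP, b, hcb⟩, hcc⟩ := conj_sylow hLU hL'U LS_isPGroup (isPGroup_cj g LS_isPGroup) hmax (card_cj g _)
  obtain ⟨t, ht, htb⟩ := M.unip b
  have htP := NV.SP M ht
  have htL : t ∈ LS M := mem_LS ht htb
  refine ⟨t⁻¹ * c * g, mul_mem (mul_mem (inv_mem htP) hcP) hg, ?_, ?_⟩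
  · rw [mem_normalizer_iff_cj, ← cj_cj, ← cj_cj, hcc]
    exact cj_eq_of_mem_normalizer (inv_mem (le_normalizer htL))
  · have h1 := NV.acts_mul (M := M.toNatV) hg (NV.acts_mul (M := M.toNatV) hcP
      (NV.acts_inv (M := M.toNatV) htP htb) hcb) hgA
    rwa [inv_mul_cancel, one_mul] at h1

/-- `C_V(S^L)` is the sum of the lines -/
theorem mem_lines_of_cent {v : G} (hv : v ∈ V) (h : ∀ s ∈ LS M, s * v = v * s) :
    v ∈ NV.lines M.toNatV Set.univ := by
  classical
  refine ⟨⟨hv, fun i hi => absurd (Set.mem_univ i) hi⟩, fun i => ?_⟩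
  obtain ⟨t, ht, hact⟩ := M.unip (Function.update 0 i 1)
  have h1 := h t (mem_LS ht hact)
  have h2 : t * v * t⁻¹ = v := by rw [h1]; group
  have h3 := congrFun (hact.1 v hv i) 0
  rw [h2, NatPair.ap_zero'] at h3
  simp only [Function.update_self, up_00, up_01, one_mul] at h3
  exact left_eq_add.1 h3

/-- elements of `P ∩ N(S^L)` normalise the sum of the lines -/
theorem norm_lines {x : G} (hx : x ∈ P) (hxN : x ∈ normalizer (LS M : Set G)) {v : G}
    (hv : v ∈ NV.lines M.toNatV Set.univ) : x * v * x⁻¹ ∈ NV.lines M.toNatV Set.univ := by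
  refine mem_lines_of_cent (NV.cj_mem M.toNatV hx hv.1.1) fun s hs => ?_
  have h1 : x⁻¹ * s * x ∈ LS M := by
    have := (mem_normalizer_iff.1 (inv_mem hxN) s).1 hs
    rwa [inv_inv] at this
  have h2 := (mem_zc.1 (lines_le_zc hv)).2.1 _ h1
  calc s * (x * v * x⁻¹) = x * ((x⁻¹ * s * x) * v) * x⁻¹ := by group
    _ = x * (v * (x⁻¹ * s * x)) * x⁻¹ := by rw [h2]
    _ = x * v * x⁻¹ * s := by group

/-- an element of `P ∩ N(S^L)` acting as `B` is upper triangular -/
theorem tri_of_norm {x : G} (hx : x ∈ P) (hxN : x ∈ normalizer (LS M : Set G))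
    {B : Fin k → Matrix.SpecialLinearGroup (Fin 2) F} (hB : ActsSL M.e V ⊥ x B) (i : Fin k) :
    ent (B i) 1 0 = 0 := by
  obtain ⟨v, hv, hve⟩ := NV.exists_fac M.toNatV i ![1, 0]
  have h1 : v ∈ NV.lines M.toNatV Set.univ := by
    refine ⟨⟨hv.1, fun j hj => absurd (Set.mem_univ j) hj⟩, fun j => ?_⟩
    by_cases hj : j = i
    · rw [hj, hve]; rfl
    · rw [hv.2 j hj]; rfl
  have h2 := (norm_lines hx hxN h1).2 i
  rw [hB.1 v hv.1 i, hve, NatPair.ap_one'] at h2
  simpa using h2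

end main

end Cfsg.Agent.Omega.IId.ThmCQ.Sp

end

section


/-!
# THEOREM C with `D`, `q ≥ 4`, `V_P = V × D`: elements of `S` which commute with the torus elements (helper732)

The same facts as in `ThmC/FourField.lean` (helper334).
-/

set_option autoImplicit false
set_option linter.unusedSectionVars false

namespace Cfsg.Agent.Omega.IId.ThmCQ.Sp

open Subgroup Cfsg Cfsg.Agent.ZN Cfsg.Agent.Omega.IId Cfsg.Agent.Omega.ThmC.Four
open Cfsg.Agent.ZN.ChoiceBase hiding mem_zc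
open Cfsg.Agent.Omega.MinPar Cfsg.Agent.Omega.FFThm
open Cfsg.Agent.MinSimple.VModule (le_normalizer_zl mem_zc zc_le zc_le_zl)
open Cfsg.Agent.Lib.SL2Mat
open Cfsg.Agent.Omega.NatPair (ap ap_mul ap_one ap_inv_ap ap_ap_inv exists_ap ap_add ap_inj ap_smul)
open Cfsg.Agent.Omega.ThmC.FourOf (eq_one_of_pow)

universe u

variable {G : Type u} [Group G] [Finite G] {F : Type} [Field F] [Finite F] [CharP F 2] {S : Sylow 2 G}
  {P V : Subgroup G} {k : ℕ} {M : NatV F (S : Subgroup G) P V k}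

/-- semilinearity -/
theorem exists_tau {s : G} (hs : s ∈ P) {l : Fin k} (hsl : s ∈ normalizer (NV.fac M l : Set G)) :
    ∃ τ : F ≃+* F, ∀ v ∈ NV.fac M l, ∀ w ∈ NV.fac M l, ∀ c : F, M.e w l = c • M.e v l →
      M.e (s * w * s⁻¹) l = τ c • M.e (s * v * s⁻¹) l := by
  classical
  have hfac : ∀ {g : G}, g ∈ normalizer (NV.fac M l : Set G) → ∀ v ∈ NV.fac M l, g * v * g⁻¹ ∈ NV.fac M l :=
    fun hg v hv => (mem_normalizer_iff.1 hg v).1 hv
  choose u hu hue using fun x => NV.exists_fac M l x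
  have hu' : ∀ v ∈ NV.fac M l, u (M.e v l) = v := fun v hv => NV.ext_fac M (hu _) hv (hue _)
  let T : (Fin 2 → F) → (Fin 2 → F) := fun x => M.e (s * u x * s⁻¹) l
  let T' : (Fin 2 → F) → (Fin 2 → F) := fun x => M.e (s⁻¹ * u x * s⁻¹⁻¹) l
  have hT : ∀ v ∈ NV.fac M l, T (M.e v l) = M.e (s * v * s⁻¹) l := fun v hv => by
    change M.e (s * u (M.e v l) * s⁻¹) l = _
    rw [hu' v hv]
  have hT' : ∀ v ∈ NV.fac M l, T' (M.e v l) = M.e (s⁻¹ * v * s⁻¹⁻¹) l := fun v hv => by
    change M.e (s⁻¹ * u (M.e v l) * s⁻¹⁻¹) l = _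
    rw [hu' v hv]
  have hsl' : s⁻¹ ∈ normalizer (NV.fac M l : Set G) := inv_mem hsl
  have hadd : ∀ x y, T (x + y) = T x + T y := by
    intro x y
    have h1 : u x * u y = u (x + y) := by
      refine NV.ext_fac M (mul_mem (hu x) (hu y)) (hu _) ?_
      rw [M.mul _ (hu x).1 _ (hu y).1, Pi.add_apply, hue, hue, hue]
    change M.e (s * u (x + y) * s⁻¹) l = M.e (s * u x * s⁻¹) l + M.e (s * u y * s⁻¹) l
    have h2 : s * u (x + y) * s⁻¹ = (s * u x * s⁻¹) * (s * u y * s⁻¹) := by rw [← h1]; group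
    rw [h2, M.mul _ (hfac hsl _ (hu x)).1 _ (hfac hsl _ (hu y)).1, Pi.add_apply]
  have h1 : ∀ x, T' (T x) = x := by
    intro x
    have h2 := hT' _ (hfac hsl _ (hu x))
    change T' (T x) = _ at h2
    rw [h2]
    have h3 : s⁻¹ * (s * u x * s⁻¹) * s⁻¹⁻¹ = u x := by group
    rw [h3, hue]
  have h2 : ∀ x, T (T' x) = x := by
    intro x
    have h2 := hT _ (hfac hsl' _ (hu x))
    change T (T' x) = _ at h2
    rw [h2]
    have h3 : s * (s⁻¹ * u x * s⁻¹⁻¹) * s⁻¹ = u x := by group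
    rw [h3, hue]
  have hn : ∀ A : Matrix.SpecialLinearGroup (Fin 2) F, ∃ B : Matrix.SpecialLinearGroup (Fin 2) F,
      ∀ x, T' (ap A (T x)) = ap B x := by
    intro A
    obtain ⟨h, hh, hA, -⟩ := M.lift (Function.update 1 l A)
    obtain ⟨B, hB⟩ := M.norm s⁻¹ (inv_mem hs) h hh _ hA
    have hhl : h ∈ normalizer (NV.fac M l : Set G) := by
      refine NV.grp_normalizes M {l} {l} ⟨hh, Function.update 1 l A, ⟨hA, fun d hd => ?_⟩, fun i hi => ?_⟩
      · rw [mem_bot] at hd
        rw [hd]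
        group
      · exact Function.update_of_ne hi _ _
    refine ⟨B l, fun x => ?_⟩
    have h3 := hB (u x) (hu x).1 l
    rw [hue] at h3
    rw [← h3]
    have h4 : ap A (T x) = M.e (h * (s * u x * s⁻¹) * h⁻¹) l := by
      rw [hA _ (hfac hsl _ (hu x)).1 l, Function.update_self]
    rw [h4, hT' _ (hfac hhl _ (hfac hsl _ (hu x)))]
    have e : s⁻¹ * (h * (s * u x * s⁻¹) * h⁻¹) * s⁻¹⁻¹ = s⁻¹ * h * s⁻¹⁻¹ * u x * (s⁻¹ * h * s⁻¹⁻¹)⁻¹ := by group
    rw [e]
  obtain ⟨σ, hσ⟩ := NatPair.exists_semi T T' hadd h1 h2 hn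
  obtain ⟨τ, hτ⟩ := NatPair.exists_ringEquiv T T' hadd h1 σ hσ
  refine ⟨τ, fun v hv w hw c hc => ?_⟩
  rw [← hT v hv, ← hT w hw, hc, hτ]

/-- powers -/
theorem tau_pow {s : G} {l : Fin k} (hsl : s ∈ normalizer (NV.fac M l : Set G)) {τ : F ≃+* F}
    (hτ : ∀ v ∈ NV.fac M l, ∀ w ∈ NV.fac M l, ∀ c : F, M.e w l = c • M.e v l →
      M.e (s * w * s⁻¹) l = τ c • M.e (s * v * s⁻¹) l) (j : ℕ) :
    ∀ v ∈ NV.fac M l, ∀ w ∈ NV.fac M l, ∀ c : F, M.e w l = c • M.e v l →
      M.e (s ^ j * w * (s ^ j)⁻¹) l = (τ ^ j) c • M.e (s ^ j * v * (s ^ j)⁻¹) l := by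
  induction j with
  | zero =>
    intro v _ w _ c hc
    simp only [pow_zero, one_mul, inv_one, mul_one]
    exact hc
  | succ j ih =>
    intro v hv w hw c hc
    have hj : s ^ j ∈ normalizer (NV.fac M l : Set G) := pow_mem hsl j
    have h1 := hτ _ ((mem_normalizer_iff.1 hj v).1 hv) _ ((mem_normalizer_iff.1 hj w).1 hw) _ (ih v hv w hw c hc)
    have e1 : ∀ x : G, s ^ (j + 1) * x * (s ^ (j + 1))⁻¹ = s * (s ^ j * x * (s ^ j)⁻¹) * s⁻¹ := fun x => by
      rw [pow_succ']
      group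
    rw [e1, e1, h1, pow_succ']
    rfl

/-- **The field automorphism.** `t ∈ F` is not fixed by a nontrivial automorphism of 2-power order, `s ∈ S` normalises the
factor `l` and commutes on the NV.line with the multiplication by `t`: `s` acts as a root element on the factor `l`. -/
theorem act_up (hSP : (S : Subgroup G) ≤ P) {t : F}
    (ht : ∀ (τ : F ≃+* F) (n : ℕ), τ ^ 2 ^ n = 1 → τ t = t → τ = 1) {s : G} (hs : s ∈ (S : Subgroup G)) {l : Fin k}
    (hsl : s ∈ normalizer (NV.fac M l : Set G))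
    (hst : ∀ v ∈ NV.line M l, ∀ w ∈ NV.line M l, M.e w l = t • M.e v l →
      M.e (s * w * s⁻¹) l = t • M.e (s * v * s⁻¹) l) :
    ∃ b : F, ∀ v ∈ V, M.e (s * v * s⁻¹) l = ap (up b) (M.e v l) := by
  classical
  obtain ⟨τ, hτ⟩ := exists_tau (M := M) (hSP hs) hsl
  have hfac : ∀ j : ℕ, ∀ v ∈ NV.fac M l, s ^ j * v * (s ^ j)⁻¹ ∈ NV.fac M l := fun j v hv =>
    (mem_normalizer_iff.1 (pow_mem hsl j : s ^ j ∈ normalizer (NV.fac M l : Set G)) v).1 hv
  have hfac1 : ∀ v ∈ NV.fac M l, s * v * s⁻¹ ∈ NV.fac M l := fun v hv => (mem_normalizer_iff.1 hsl v).1 hv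
  -- the order of `τ`
  obtain ⟨n, hn⟩ := S.isPGroup' ⟨s, hs⟩
  have hn' : s ^ 2 ^ n = 1 := congrArg Subtype.val hn
  have hτn : τ ^ 2 ^ n = 1 := by
    ext c
    obtain ⟨v, hv, hve⟩ := NV.exists_fac M l ![1, 0]
    obtain ⟨w, hw, hwe⟩ := NV.exists_fac M l (c • ![1, 0])
    have h1 := tau_pow hsl hτ (2 ^ n) v hv w hw c (by rw [hve, hwe])
    rw [hn', one_mul, one_mul, inv_one, mul_one, mul_one, hve, hwe] at h1
    have h2 := congrFun h1 0
    simpa using h2.symm
  -- `τ t = t`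
  have hsg : NV.sg M (hSP hs) l = l := (NV.mem_normalizer_fac_iff M (hSP hs)).1 hsl
  have hline : ∀ v ∈ NV.line M l, s * v * s⁻¹ ∈ NV.line M l := by
    intro v hv
    have h1 := NV.stab_normalizes_line M hSP l ⟨hs, hsl⟩
    exact (mem_normalizer_iff.1 h1 v).1 hv
  obtain ⟨v, hv, hve⟩ := NV.exists_fac M l ![1, 0]
  have hvl : v ∈ NV.line M l := (NV.mem_line M).2 ⟨hv, by rw [hve]; rfl⟩
  have hv1 : v ≠ 1 := by
    intro h
    rw [h, NV.e_one] at hve
    exact zero_ne_one (congrFun hve 0)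
  have hsv0 : M.e (s * v * s⁻¹) l 0 ≠ 0 := by
    intro h0
    have h1 := hline v hvl
    have h2 : s * v * s⁻¹ = 1 := by
      rw [← NV.fac_eq_one M h1.1]
      exact NatPair.ext2 h0 (((NV.mem_line M).1 h1).2)
    apply hv1
    have h3 : v = s⁻¹ * (s * v * s⁻¹) * s := by group
    rw [h3, h2]
    group
  have hτt : τ t = t := by
    obtain ⟨w, hw, hwe⟩ := NV.exists_fac M l (t • ![1, 0])
    have hwl : w ∈ NV.line M l := (NV.mem_line M).2 ⟨hw, by rw [hwe]; simp⟩
    have h1 := hτ v hv w hw t (by rw [hve, hwe])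
    have h2 := hst v hvl w hwl (by rw [hve, hwe])
    rw [h2] at h1
    have h3 := congrFun h1 0
    exact (mul_right_cancel₀ hsv0 h3).symm
  have hτ1 := ht τ n hτn hτt
  subst hτ1
  have hlin : ∀ v ∈ NV.fac M l, ∀ w ∈ NV.fac M l, ∀ c : F, M.e w l = c • M.e v l →
      M.e (s * w * s⁻¹) l = c • M.e (s * v * s⁻¹) l := hτ
  -- the image of `(1, 0)`
  obtain ⟨c, hce⟩ : ∃ c, M.e (s * v * s⁻¹) l = ![c, 0] := by
    refine ⟨M.e (s * v * s⁻¹) l 0, ?_⟩
    apply NatPair.ext2
    · rfl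
    · exact ((NV.mem_line M).1 (hline v hvl)).2
  have hcpow : ∀ j : ℕ, M.e (s ^ j * v * (s ^ j)⁻¹) l = ![c ^ j, 0] := by
    intro j
    induction j with
    | zero => simpa using hve
    | succ j ih =>
      have e1 : s ^ (j + 1) * v * (s ^ (j + 1))⁻¹ = s * (s ^ j * v * (s ^ j)⁻¹) * s⁻¹ := by
        rw [pow_succ']
        group
      rw [e1, hlin v hv _ (hfac j v hv) (c ^ j) (by
        rw [ih, hve]
        apply NatPair.ext2 <;> simp), hce]
      apply NatPair.ext2
      · simp [pow_succ]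
      · simp
  have hc1 : c = 1 := by
    have h1 := congrFun (hcpow (2 ^ n)) 0
    rw [hn', one_mul, inv_one, mul_one, hve] at h1
    exact eq_one_of_pow h1.symm
  rw [hc1] at hce
  -- the image of `(0, 1)`
  obtain ⟨w, hw, hwe⟩ := NV.exists_fac M l ![0, 1]
  obtain ⟨b, d, hbd⟩ : ∃ b d, M.e (s * w * s⁻¹) l = ![b, d] :=
    ⟨_, _, NatPair.ext2 (x := M.e (s * w * s⁻¹) l) (y := ![M.e (s * w * s⁻¹) l 0, M.e (s * w * s⁻¹) l 1]) rfl rfl⟩
  -- the general formula
  have hgen : ∀ x ∈ NV.fac M l, M.e (s * x * s⁻¹) l = ![M.e x l 0 + b * M.e x l 1, d * M.e x l 1] := by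
    intro x hx
    obtain ⟨x0, hx0, hx0e⟩ := NV.exists_fac M l (M.e x l 0 • ![1, 0])
    obtain ⟨x1, hx1, hx1e⟩ := NV.exists_fac M l (M.e x l 1 • ![0, 1])
    have h1 : x = x0 * x1 := by
      refine NV.ext_fac M hx (mul_mem hx0 hx1) ?_
      rw [M.mul _ hx0.1 _ hx1.1, Pi.add_apply, hx0e, hx1e]
      apply NatPair.ext2 <;> simp
    have h2 : s * x * s⁻¹ = (s * x0 * s⁻¹) * (s * x1 * s⁻¹) := by
      conv_lhs => rw [h1]
      group
    rw [h2, M.mul _ (hfac1 _ hx0).1 _ (hfac1 _ hx1).1, Pi.add_apply,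
      hlin v hv x0 hx0 (M.e x l 0) (by rw [hx0e, hve]), hlin w hw x1 hx1 (M.e x l 1) (by rw [hx1e, hwe]), hce, hbd]
    apply NatPair.ext2
    · simp; ring
    · simp; ring
  have hdpow : ∀ j : ℕ, M.e (s ^ j * w * (s ^ j)⁻¹) l 1 = d ^ j := by
    intro j
    induction j with
    | zero => simp [hwe]
    | succ j ih =>
      have e1 : s ^ (j + 1) * w * (s ^ (j + 1))⁻¹ = s * (s ^ j * w * (s ^ j)⁻¹) * s⁻¹ := by
        rw [pow_succ']
        group
      rw [e1, hgen _ (hfac j w hw)]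
      change d * M.e (s ^ j * w * (s ^ j)⁻¹) l 1 = _
      rw [ih, pow_succ']
  have hd1 : d = 1 := by
    have h1 := hdpow (2 ^ n)
    rw [hn', one_mul, inv_one, mul_one, hwe] at h1
    exact eq_one_of_pow h1.symm
  refine ⟨b, fun x hx => ?_⟩
  obtain ⟨y, hy, z, hz, rfl⟩ := NV.exists_comp M hx {l}
  have hz' : z ∈ V := hz.1
  have hzl : M.e z l = 0 := hz.2 l fun h => h rfl
  have h2 : M.e (s * z * s⁻¹) l = 0 := by
    have h3 := (NV.sg_spec M (hSP hs) hz' l).2 hzl
    rwa [hsg] at h3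
  have h3 : s * (y * z) * s⁻¹ = (s * y * s⁻¹) * (s * z * s⁻¹) := by group
  have hy' : y ∈ NV.fac M l := hy
  rw [h3, M.mul _ (hfac1 y hy').1 _ (NV.cj_mem M (hSP hs) hz'), M.mul _ hy.1 _ hz', Pi.add_apply, Pi.add_apply, h2, hzl,
    add_zero, add_zero, hgen y hy', hd1]
  apply NatPair.ext2
  · rw [NatPair.ap_zero', up_00, up_01]; simp
  · rw [NatPair.ap_one', up_10, up_11]; simp

end Cfsg.Agent.Omega.IId.ThmCQ.Sp

end

section


/-!
# THEOREM C with `D`, `q ≥ 4`, `V_P = V × D`: the data `DatD` (helper732)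

`M : NatD F S P V D k`, `4 ≤ |F|`: `exists_tor` gives `h : Fin k → G`, a prime `p` and `Tor M t p h`;
`Tor.dat : DatD S (LS M) (line M) h p`. The same proofs as in `ThmC/FourMk.lean` (helper334).
`ccD_of`: the consequences of `DatD.main`.
-/

set_option autoImplicit false
set_option linter.unusedSectionVars false

namespace Cfsg.Agent.Omega.IId.ThmCQ.Sp

open Subgroup Cfsg Cfsg.Agent.ZN Cfsg.Agent.Omega.IId Cfsg.Agent.Omega.ThmC.Four
open Cfsg.Agent.ZN.ChoiceBase hiding mem_zc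
open Cfsg.Agent.Omega.MinPar Cfsg.Agent.Omega.FFThm
open Cfsg.Agent.MinSimple.VModule (le_normalizer_zl mem_zc zc_le zc_le_zl)
open Cfsg.Agent.Lib.SL2Mat
open Cfsg.Agent.Omega.NatPair (ap ap_mul ap_one ap_inv_ap ap_ap_inv exists_ap ap_add ap_inj ap_smul)
open Cfsg.Agent.Omega.ThmC (exists_t)
open Cfsg.Agent.Omega.ThmC.FourOf (eq_one_of_pow dg_pow ap_pow_tri conj_mem_cj' mem_norm_of_le tri_eq)

universe u

variable {G : Type u} [Group G] [Finite G] {F : Type} [Field F] [Finite F] [CharP F 2] {S : Sylow 2 G}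
  {P V D : Subgroup G} {k : ℕ}

/-- The torus elements. -/
structure Tor (M : NatD F S P V D k) (t : F) (p : ℕ) (h : Fin k → G) : Prop where
  prime : p.Prime
  odd : p ≠ 2
  ne_one : t ≠ 1
  pow : t ^ p = 1
  ne_zero : t ≠ 0
  field : ∀ (τ : F ≃+* F) (n : ℕ), τ ^ 2 ^ n = 1 → τ t = t → τ = 1
  mem : ∀ l, h l ∈ P
  nor : ∀ l, h l ∈ normalizer (LS M : Set G)
  act : ∀ l, ActsSL M.e V ⊥ (h l) (Function.update 1 l (dg t ne_zero))

variable {M : NatD F S P V D k} {t : F} {p : ℕ} {h : Fin k → G}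

theorem exists_tor (hF : 4 ≤ Nat.card F) :
    ∃ (t : F) (p : ℕ) (h : Fin k → G), Tor M t p h := by
  classical
  obtain ⟨p, t, hp, hp2, ht1, htp, hf⟩ := exists_t hF
  have ht0 : t ≠ 0 := by
    rintro rfl
    rw [zero_pow hp.ne_zero] at htp
    exact zero_ne_one htp
  have key : ∀ l : Fin k, ∃ g : G, g ∈ P ∧ g ∈ normalizer (LS M : Set G) ∧
      ActsSL M.e V ⊥ g (Function.update 1 l (dg t ht0)) := by
    intro l
    obtain ⟨g, hg, hgn, hga⟩ := exists_norm (M := M) (Function.update 1 l (dg t ht0)) fun i => by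
      by_cases hi : i = l
      · rw [hi, Function.update_self, dg_10]
      · rw [Function.update_of_ne hi, Pi.one_apply]
        simp
    exact ⟨g, hg, hgn, hga⟩
  choose h h1 h2 h3 using key
  exact ⟨t, p, h, ⟨hp, hp2, ht1, htp, ht0, hf, h1, h2, h3⟩⟩

namespace Tor

variable (T : Tor M t p h)

include T

theorem mem_grp (l : Fin k) : h l ∈ NV.grp M.toNatV {l} :=
  ⟨T.mem l, _, T.act l, fun _ hi => Function.update_of_ne hi _ _⟩

theorem e_line {l : Fin k} {v : G} (hv : v ∈ NV.line M.toNatV l) : M.e (h l * v * (h l)⁻¹) l = t • M.e v l := by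
  rw [(T.act l).1 v hv.1.1 l, Function.update_self]
  have h1 := ((NV.mem_line M.toNatV).1 hv).2
  apply NatPair.ext2
  · rw [NatPair.ap_zero', dg_00, dg_01, h1]; simp
  · rw [NatPair.ap_one', dg_10, dg_11, h1]; simp [h1]

theorem mem_nor (l m : Fin k) : h l ∈ normalizer (NV.line M.toNatV m : Set G) := by
  refine mem_norm_of_le fun v hv => ?_
  have h1 : h l * v * (h l)⁻¹ ∈ NV.fac M.toNatV m :=
    (mem_normalizer_iff.1 (NV.grp_normalizes M.toNatV {l} {m} (T.mem_grp l)) v).1 hv.1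
  refine (NV.mem_line M.toNatV).2 ⟨h1, ?_⟩
  rw [(T.act l).1 v hv.1.1 m]
  by_cases hm : m = l
  · subst hm
    rw [Function.update_self, NatPair.ap_one', dg_10, dg_11, ((NV.mem_line M.toNatV).1 hv).2]
    ring
  · rw [Function.update_of_ne hm, Pi.one_apply, ap_one]
    exact ((NV.mem_line M.toNatV).1 hv).2

theorem comm_fac {l m : Fin k} (hlm : l ≠ m) {v : G} (hv : v ∈ NV.fac M.toNatV l) : h m * v = v * h m :=
  NV.grp_comm M.toNatV (Set.disjoint_singleton.2 hlm.symm) (T.mem_grp m) hv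

theorem fpf {l : Fin k} {v : G} (hv : v ∈ NV.line M.toNatV l) (hc : h l * v = v * h l) : v = 1 := by
  have h1 := T.e_line hv
  have h2 : h l * v * (h l)⁻¹ = v := by rw [hc]; group
  rw [h2] at h1
  rw [← NV.fac_eq_one M.toNatV hv.1]
  apply NatPair.ext2
  · have h3 := congrFun h1 0
    simp only [Pi.smul_apply, smul_eq_mul] at h3
    have h4 : (t - 1) * M.e v l 0 = 0 := by linear_combination -h3
    rcases mul_eq_zero.1 h4 with h5 | h5
    · exact absurd (sub_eq_zero.1 h5) T.ne_one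
    · exact h5
  · exact ((NV.mem_line M.toNatV).1 hv).2

end Tor

theorem exists_line (M : NatD F S P V D k) (i : Fin k) : ∃ z ∈ NV.line M.toNatV i, z ≠ 1 := by
  obtain ⟨v, hv, h⟩ := NV.exists_fac M.toNatV i ![1, 0]
  refine ⟨v, (NV.mem_line M.toNatV).2 ⟨hv, by rw [h]; rfl⟩, fun h1 => ?_⟩
  rw [h1, NV.e_one] at h
  have := congrFun h 0
  simp at this

theorem lines_le_iSup (M : NatD F S P V D k) :
    NV.lines M.toNatV Set.univ ≤ ⨆ l, NV.line M.toNatV l := by
  classical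
  have key : ∀ I : Finset (Fin k), NV.lines M.toNatV (I : Set (Fin k)) ≤ ⨆ l, NV.line M.toNatV l := by
    intro I
    induction I using Finset.induction_on with
    | empty =>
      intro v hv
      have h1 : v = 1 := by
        rw [← NV.e_eq_zero M.toNatV hv.1.1]
        funext i
        exact hv.1.2 i (by simp)
      rw [h1]
      exact one_mem _
    | insert i I hi ih =>
      intro v hv
      obtain ⟨a, ha, hae, hav⟩ := NV.exists_component M.toNatV hv.1.1 i
      have h1 : a ∈ NV.line M.toNatV i := (NV.mem_line M.toNatV).2 ⟨ha, by rw [hae]; exact hv.2 i⟩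
      have h2 : a⁻¹ * v ∈ NV.lines M.toNatV (I : Set (Fin k)) := by
        have e1 : ∀ j, M.e (a⁻¹ * v) j = - M.e a j + M.e v j := fun j => by
          rw [M.mul _ (inv_mem ha.1) _ hv.1.1, NV.e_inv M.toNatV ha.1]
          rfl
        refine ⟨⟨mul_mem (inv_mem ha.1) hv.1.1, fun j hj => ?_⟩, fun j => ?_⟩
        · by_cases hji : j = i
          · rw [e1, hji, hae]; simp
          · rw [e1, ha.2 j hji, hv.1.2 j (by
              rw [Finset.coe_insert, Set.mem_insert_iff, not_or]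
              exact ⟨hji, hj⟩)]
            simp
        · rw [e1, Pi.add_apply, Pi.neg_apply, h1.2 j, hv.2 j]
          simp
      have h3 : v = a * (a⁻¹ * v) := by group
      rw [h3]
      exact mul_mem ((le_iSup (fun l => NV.line M.toNatV l) i) h1) (ih h2)
  have := key Finset.univ
  rwa [Finset.coe_univ] at this

/-- the data -/
theorem Tor.dat (T : Tor M t p h) :
    DatD S (LS M) (NV.line M.toNatV) h p where
  prime := T.prime
  odd := T.odd
  LS := LS_le
  nor := S_le_normalizer_LS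
  cL := cent_LS
  hL := T.nor
  hcomm l m := by
    classical
    refine act_of_eq (M := M) (mul_mem (T.mem l) (T.mem m)) (mul_mem (T.nor l) (T.nor m))
      (mul_mem (T.mem m) (T.mem l)) (mul_mem (T.nor m) (T.nor l)) (NV.acts_mul (M := M.toNatV) (T.mem m) (T.act l) (T.act m)) ?_
    have h1 := NV.acts_mul (M := M.toNatV) (T.mem l) (T.act m) (T.act l)
    have e : (Function.update (1 : Fin k → Matrix.SpecialLinearGroup (Fin 2) F) m (dg t T.ne_zero)) *
        (Function.update (1 : Fin k → Matrix.SpecialLinearGroup (Fin 2) F) l (dg t T.ne_zero)) =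
        (Function.update (1 : Fin k → Matrix.SpecialLinearGroup (Fin 2) F) l (dg t T.ne_zero)) *
        (Function.update (1 : Fin k → Matrix.SpecialLinearGroup (Fin 2) F) m (dg t T.ne_zero)) := by
      by_cases hlm : l = m
      · rw [hlm]
      funext i
      rw [Pi.mul_apply, Pi.mul_apply]
      by_cases hi : i = l
      · have him : i ≠ m := fun h => hlm (hi.symm.trans h)
        rw [Function.update_of_ne him, Pi.one_apply, one_mul, mul_one]
      · rw [Function.update_of_ne hi, Pi.one_apply, one_mul, mul_one]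
    rwa [e] at h1
  hp l := by
    classical
    refine act_of_eq (M := M) (pow_mem (T.mem l) p) (pow_mem (T.nor l) p) (one_mem _) (one_mem _)
      (acts_pow (M := M.toNatV) (T.mem l) (T.act l) p) ?_
    have e : (Function.update 1 l (dg t T.ne_zero) : Fin k → Matrix.SpecialLinearGroup (Fin 2) F) ^ p = 1 := by
      funext i
      rw [Pi.pow_apply, Pi.one_apply]
      by_cases hi : i = l
      · rw [hi, Function.update_self, dg_pow]
        apply ext_ent <;> simp [T.pow]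
      · rw [Function.update_of_ne hi, Pi.one_apply, one_pow]
    rw [e]
    exact NV.acts_one M.toNatV
  perm s hs := by
    classical
    refine ⟨NV.sg M.toNatV (NV.SP M hs), fun l => ?_⟩
    have hx : s * h l * s⁻¹ ∈ NV.grp M.toNatV {NV.sg M.toNatV (NV.SP M hs) l} := by
      have h1 := NV.conj_grp M.toNatV (NV.SP M hs) {l}
      rw [Set.image_singleton] at h1
      rw [← h1]
      exact conj_mem_cj' (T.mem_grp l)
    have hxN : s * h l * s⁻¹ ∈ normalizer (LS M : Set G) :=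
      mul_mem (mul_mem (S_le_normalizer_LS hs) (T.nor l)) (inv_mem (S_le_normalizer_LS hs))
    set m := NV.sg M.toNatV (NV.SP M hs) l with hm
    set x := s * h l * s⁻¹ with hxdef
    obtain ⟨hxP, A, hA, hA1⟩ := hx
    have htri := tri_of_norm hxP hxN hA m
    have hAp : A ^ p = 1 := by
      have h1 := acts_pow (M := M.toNatV) hxP hA p
      have h2 : h l ^ p ∈ centralizer (V : Set G) := by
        refine cent_of_acts (M := M.toNatV) (pow_mem (T.mem l) p) ?_
        have h3 := acts_pow (M := M.toNatV) (T.mem l) (T.act l) p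
        have e : (Function.update 1 l (dg t T.ne_zero) : Fin k → Matrix.SpecialLinearGroup (Fin 2) F) ^ p = 1 := by
          funext i
          rw [Pi.pow_apply, Pi.one_apply]
          by_cases hi : i = l
          · rw [hi, Function.update_self, dg_pow]
            apply ext_ent <;> simp [T.pow]
          · rw [Function.update_of_ne hi, Pi.one_apply, one_pow]
        rwa [e] at h3
      have h3 : x ^ p ∈ centralizer (V : Set G) := by
        have e : x ^ p = s * h l ^ p * s⁻¹ := by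
          rw [hxdef, conj_pow]
        rw [e, mem_centralizer_iff]
        intro v hv
        have h4 := mem_centralizer_iff.1 h2 _ (NV.cj_mem' M.toNatV (NV.SP M hs) hv)
        calc v * (s * h l ^ p * s⁻¹) = s * ((s⁻¹ * v * s) * h l ^ p) * s⁻¹ := by group
          _ = s * (h l ^ p * (s⁻¹ * v * s)) * s⁻¹ := by rw [h4]
          _ = s * h l ^ p * s⁻¹ * v := by group
      exact acts_unique (M := M.toNatV) h1 (acts_of_cent (M := M.toNatV) h3)
    have hap : (ent (A m) 0 0) ^ p = 1 := by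
      have h1 := ap_pow_tri htri p
      have h2 : A m ^ p = 1 := by
        have := congrFun hAp m
        rwa [Pi.pow_apply, Pi.one_apply] at this
      rw [h2, ap_one] at h1
      exact (congrFun h1 0).symm
    have ha0 : ent (A m) 0 0 ≠ 0 := by
      intro h0
      rw [h0, zero_pow T.prime.ne_zero] at hap
      exact zero_ne_one hap
    -- `a` is a power of `t`
    have : Fact p.Prime := ⟨T.prime⟩
    have : NeZero p := ⟨T.prime.ne_zero⟩
    have hprim : IsPrimitiveRoot t p := by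
      rw [IsPrimitiveRoot.iff_orderOf]
      exact orderOf_eq_prime T.pow T.ne_one
    obtain ⟨r, -, hr⟩ := hprim.eq_pow_of_pow_eq_one hap
    refine ⟨r, ?_⟩
    set b := ent (A m) 0 1 * ent (A m) 0 0 with hb
    obtain ⟨u, hu, hub⟩ := M.unip (Function.update 0 m b)
    have huL : u ∈ LS M := mem_LS hu hub
    have huN : u ∈ normalizer (LS M : Set G) := le_normalizer huL
    have h1 : Act (zc (LS M)) x (u * h m ^ r) := by
      refine act_of_eq (M := M) hxP hxN (mul_mem (NV.SP M hu) (pow_mem (T.mem m) r))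
        (mul_mem huN (pow_mem (T.nor m) r)) hA ?_
      have h2 := NV.acts_mul (M := M.toNatV) (pow_mem (T.mem m) r) hub (acts_pow (M := M.toNatV) (T.mem m) (T.act m) r)
      have e : (fun i => up ((Function.update 0 m b : Fin k → F) i)) *
          (Function.update 1 m (dg t T.ne_zero) : Fin k → Matrix.SpecialLinearGroup (Fin 2) F) ^ r = A := by
        funext i
        rw [Pi.mul_apply, Pi.pow_apply]
        by_cases hi : i = m
        · rw [hi, Function.update_self, Function.update_self, dg_pow]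
          have h3 := tri_eq htri ha0
          conv_rhs => rw [h3]
          congr 1
          apply ext_ent <;> simp [hr]
        · rw [Function.update_of_ne hi, Function.update_of_ne hi, Pi.one_apply, one_pow, Pi.zero_apply, up_zero,
            mul_one, hA1 i hi]
      rwa [e] at h2
    intro e he
    rw [h1 e he]
    have h3 : h m ^ r * e * (h m ^ r)⁻¹ ∈ zc (LS M) :=
      (mem_normalizer_iff.1 (MinSimple.VModule.normalizer_le_normalizer_zc _ (pow_mem (T.nor m) r)) e).1 he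
    have h4 := (mem_zc.1 h3).2.1 u huL
    calc u * h m ^ r * e * (u * h m ^ r)⁻¹ = (u * (h m ^ r * e * (h m ^ r)⁻¹)) * u⁻¹ := by group
      _ = ((h m ^ r * e * (h m ^ r)⁻¹) * u) * u⁻¹ := by rw [h4]
      _ = h m ^ r * e * (h m ^ r)⁻¹ := by group
  field s hs hcomm := by
    classical
    have hLE : ∀ l, NV.line M.toNatV l ≤ zc (LS M) := fun l => (NV.lines_mono M.toNatV (Set.subset_univ _)).trans (lines_le_zc)
    have hconj : ∀ l, ∀ v ∈ NV.line M.toNatV l, s * (h l * v * (h l)⁻¹) * s⁻¹ = h l * (s * v * s⁻¹) * (h l)⁻¹ := by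
      intro l v hv
      have h1 := hcomm l v (hLE l hv)
      calc s * (h l * v * (h l)⁻¹) * s⁻¹ = (s * h l) * v * (s * h l)⁻¹ := by group
        _ = (h l * s) * v * (h l * s)⁻¹ := h1
        _ = h l * (s * v * s⁻¹) * (h l)⁻¹ := by group
    have hsg : ∀ l, NV.sg M.toNatV (NV.SP M hs) l = l := by
      intro l
      by_contra hne
      obtain ⟨v, hv, hv1⟩ := exists_line M l
      have h1 : s * v * s⁻¹ ∈ NV.line M.toNatV (NV.sg M.toNatV (NV.SP M hs) l) := by
        rw [← NV.conj_line M.toNatV (NV.SP M) hs]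
        exact conj_mem_cj' hv
      have h2 := T.comm_fac (l := NV.sg M.toNatV (NV.SP M hs) l) (m := l) hne h1.1
      have h3 := hconj l v hv
      have h4 : h l * (s * v * s⁻¹) * (h l)⁻¹ = s * v * s⁻¹ := by rw [h2]; group
      rw [h4] at h3
      have h5 : h l * v * (h l)⁻¹ = v := by
        have h6 : s * (h l * v * (h l)⁻¹) = s * v := mul_right_cancel h3
        exact mul_left_cancel h6
      apply hv1
      refine T.fpf hv ?_
      calc h l * v = (h l * v * (h l)⁻¹) * h l := by group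
        _ = v * h l := by rw [h5]
    have hsl : ∀ l, s ∈ normalizer (NV.fac M.toNatV l : Set G) := fun l => (NV.mem_normalizer_fac_iff M.toNatV (NV.SP M hs)).2 (hsg l)
    have key : ∀ l, ∃ b : F, ∀ v ∈ V, M.e (s * v * s⁻¹) l = ap (up b) (M.e v l) := by
      intro l
      refine act_up (M := M.toNatV) (NV.SP M) T.field hs (hsl l) fun v hv w hw hvw => ?_
      have h1 : w = h l * v * (h l)⁻¹ := by
        refine NV.ext_fac M.toNatV hw.1 ?_ ?_
        · exact ((mem_normalizer_iff.1 (T.mem_nor l l) v).1 hv).1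
        · rw [T.e_line hv, hvw]
      have h2 : s * v * s⁻¹ ∈ NV.line M.toNatV l := by
        have h3 : s * v * s⁻¹ ∈ NV.line M.toNatV (NV.sg M.toNatV (NV.SP M hs) l) := by
          rw [← NV.conj_line M.toNatV (NV.SP M) hs]
          exact conj_mem_cj' hv
        rwa [hsg] at h3
      rw [h1, hconj l v hv, T.e_line h2]
    choose b hb using key
    refine mem_LS (M := M) hs (A := fun l => up (b l)) ⟨fun v hv i => hb i v hv, fun d hd => ?_⟩
    rw [mem_bot] at hd
    rw [hd]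
    group
  ZE l := (NV.lines_mono M.toNatV (Set.subset_univ _)).trans (lines_le_zc)
  Zne l := by
    obtain ⟨z, hz, hz1⟩ := exists_line M l
    intro h0
    rw [h0, mem_bot] at hz
    exact hz1 hz
  Znor l := T.mem_nor l l
  Zfpf l z hz hc := T.fpf hz hc
  Zcent l m hlm z hz := T.comm_fac hlm hz.1
  Zperm s hs l := ⟨NV.sg M.toNatV (NV.SP M hs) l, fun v => by
    rw [← NV.conj_line M.toNatV (NV.SP M) hs, mem_cj]
    have e : s⁻¹ * (s * v * s⁻¹) * s = v := by group
    rw [e]⟩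
  trans l m := by
    obtain ⟨s, hs, h1⟩ := NV.exists_trans M.toNatV (NV.SP M) l m
    refine ⟨s, hs, fun v => ?_⟩
    have h2 : NV.sg M.toNatV (NV.SP M hs) l = m := (NV.sg_eq_iff M.toNatV (NV.SP M hs)).2 h1
    rw [← h2, ← NV.conj_line M.toNatV (NV.SP M) hs, mem_cj]
    have e : s⁻¹ * (s * v * s⁻¹) * s = v := by group
    rw [e]
  fix z hz := by
    obtain ⟨v, hv, d, hd, rfl⟩ := zc_S_le (M := M) hz
    refine ⟨d, D_le_zc hd, fun l => (mem_centralizer_iff.1 (M.cD (T.mem l)) d hd).symm, v,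
      lines_le_iSup M hv, ?_⟩
    exact (mem_centralizer_iff.1 (M.cD (NV.SP M (NV.V_le_S M hv.1.1))) d hd).symm

/-- the consequences for the factors -/
theorem ccD_of (M : NatD F S P V D k) (hmain : ∀ i, o2 (normalizer (NV.line M.toNatV i : Set G)) ≤
    centralizer (zc (LS M) : Set G)) {i l : Fin k} (hli : l ≠ i) :
    NV.fac M.toNatV l ≤ centralizer (o2 (normalizer (NV.line M.toNatV i : Set G)) : Set G) := by
  set W := o2 (normalizer (NV.line M.toNatV i : Set G)) with hW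
  have hNW : normalizer (NV.line M.toNatV i : Set G) ≤ normalizer (W : Set G) := MinSimple.VModule.le_normalizer_o2 _
  have hCW : centralizer (NV.line M.toNatV i : Set G) ≤ normalizer (W : Set G) := (centralizer_le_normalizer _).trans hNW
  have hLE : ∀ l, NV.line M.toNatV l ≤ zc (LS M) := fun l => (NV.lines_mono M.toNatV (Set.subset_univ _)).trans lines_le_zc
  have h1 : W ≤ centralizer (zc (LS M) : Set G) := hmain i
  intro v hv
  rw [mem_centralizer_iff]
  intro w hw
  by_cases hv1 : v = 1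
  · rw [hv1, mul_one, one_mul]
  obtain ⟨z, hz, hz1⟩ := exists_line M l
  obtain ⟨g, hg, hgz⟩ := NV.exists_grp M.toNatV (NV.line_le M.toNatV l hz) hv hz1 hv1
  have hgW : g ∈ normalizer (W : Set G) := by
    refine hCW (mem_centralizer_iff.2 fun x hx => ?_)
    exact (NV.grp_comm M.toNatV (Set.disjoint_singleton.2 hli) hg (NV.line_le M.toNatV i hx)).symm
  have hw' : g⁻¹ * w * g ∈ W := by
    have := (mem_normalizer_iff.1 (inv_mem hgW) w).1 hw
    rwa [inv_inv] at this
  have h2 := mem_centralizer_iff.1 (h1 hw') z (hLE l hz)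
  rw [← hgz]
  calc w * (g * z * g⁻¹) = g * ((g⁻¹ * w * g) * z) * g⁻¹ := by group
    _ = g * (z * (g⁻¹ * w * g)) * g⁻¹ := by rw [h2]
    _ = g * z * g⁻¹ * w := by group

end Cfsg.Agent.Omega.IId.ThmCQ.Sp

end

section


/-!
# THEOREM C with `D`, `q ≥ 4`, `V_P = V × D`: the statements (helper732; `DatD.main` : helper286)

`M : NatD F S P V D k`, `4 ≤ |F|`, `W_i := O₂(N_G(line i))`:

* `o2_line_le_cent` : `W_i` centralises `Ω₁ Z(S^L)`;
* `o2_line_le_cent_D`, `o2_line_le_cent_line` : `W_i` centralises `D` and all lines;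
* `ccD` : `W_i` centralises the factors `l ≠ i`;
* `o2_line_le_S` : `W_i ≤ S`.
-/

set_option autoImplicit false
set_option linter.unusedSectionVars false

namespace Cfsg.Agent.Omega.IId.ThmCQ

open Subgroup Cfsg Cfsg.Agent.ZN Cfsg.Agent.ZN.ChoiceBase Cfsg.Agent.Omega.IId

universe u

variable {G : Type u} [Group G] [Finite G] {F : Type} [Field F] [Finite F] [CharP F 2] {S : Sylow 2 G}
  {P V D : Subgroup G} {k : ℕ}

/-- **THEOREM C with `D`**, `q ≥ 4`: `O₂(N_G(line i))` centralises `Ω₁ Z(S^L)`. -/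
theorem o2_line_le_cent (M : NatD F S P V D k) (hF : 4 ≤ Nat.card F) (i : Fin k) :
    o2 (normalizer (NV.line M.toNatV i : Set G)) ≤ centralizer (zc (Sp.LS M) : Set G) := by
  obtain ⟨t, p, h, T⟩ := Sp.exists_tor (M := M) hF
  exact T.dat.main i

theorem o2_line_le_cent_D (M : NatD F S P V D k) (hF : 4 ≤ Nat.card F) (i : Fin k) :
    o2 (normalizer (NV.line M.toNatV i : Set G)) ≤ centralizer (D : Set G) :=
  (o2_line_le_cent M hF i).trans (centralizer_le Sp.D_le_zc)

theorem o2_line_le_cent_line (M : NatD F S P V D k) (hF : 4 ≤ Nat.card F) (i l : Fin k) :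
    o2 (normalizer (NV.line M.toNatV i : Set G)) ≤ centralizer (NV.line M.toNatV l : Set G) :=
  (o2_line_le_cent M hF i).trans
    (centralizer_le ((NV.lines_mono M.toNatV (Set.subset_univ _)).trans Sp.lines_le_zc))

/-- **THEOREM C with `D`**, `q ≥ 4`: `O₂(N_G(line i))` centralises the factors `l ≠ i`. -/
theorem ccD (M : NatD F S P V D k) (hF : 4 ≤ Nat.card F) {i l : Fin k} (hli : l ≠ i) :
    NV.fac M.toNatV l ≤ centralizer (o2 (normalizer (NV.line M.toNatV i : Set G)) : Set G) :=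
  Sp.ccD_of M (o2_line_le_cent M hF) hli

/-- A 2-subgroup normalised by `S` is contained in `S`. -/
theorem le_sylow {S : Sylow 2 G} {X : Subgroup G} (hX : IsPGroup 2 X) (hn : (S : Subgroup G) ≤ normalizer (X : Set G)) :
    X ≤ S := by
  have : Fact (Nat.Prime 2) := ⟨Nat.prime_two⟩
  have h1 : IsPGroup 2 (X ⊔ (S : Subgroup G) : Subgroup G) :=
    IsPGroup.to_sup_of_normal_left' hX S.isPGroup' hn
  have h2 : X ⊔ (S : Subgroup G) = S := S.is_maximal' h1 le_sup_right
  rw [← h2]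
  exact le_sup_left

/-- `O₂(N_G(line i)) ≤ S` -/
theorem o2_line_le_S (M : NatD F S P V D k) (hF : 4 ≤ Nat.card F) (i : Fin k) :
    o2 (normalizer (NV.line M.toNatV i : Set G)) ≤ (S : Subgroup G) := by
  set E := zc (Sp.LS M) with hE
  have h1 := o2_line_le_cent M hF i
  have hlE : NV.line M.toNatV i ≤ E := (NV.lines_mono M.toNatV (Set.subset_univ _)).trans Sp.lines_le_zc
  have h2 : centralizer (E : Set G) ≤ normalizer (NV.line M.toNatV i : Set G) :=
    (centralizer_le hlE).trans (centralizer_le_normalizer _)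
  have h3 : o2 (normalizer (NV.line M.toNatV i : Set G)) ≤ o2 (centralizer (E : Set G)) :=
    MinSimple.VModule.le_o2 h1 (MinSimple.VModule.o2_isPGroup _) (h2.trans (MinSimple.VModule.le_normalizer_o2 _))
  refine h3.trans (le_sylow (MinSimple.VModule.o2_isPGroup _) ?_)
  have h4 : (S : Subgroup G) ≤ normalizer (E : Set G) :=
    Sp.S_le_normalizer_LS.trans (MinSimple.VModule.normalizer_le_normalizer_zc _)
  refine h4.trans ?_
  intro g hg
  rw [mem_normalizer_iff_cj, ← ChoiceSit.o2_cj, cj_centralizer, cj_eq_of_mem_normalizer hg]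

end Cfsg.Agent.Omega.IId.ThmCQ

end

end
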