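import Cfsg.Agent.Mrg.Omega.ThmC.FourOf
import Cfsg.Agent.Mrg.Omega.IId.Ns.Half
import Cfsg.Agent.Mrg.Omega.IId.Ns.Defs
import Cfsg.Agent.Mrg.Omega.Half.Basic
import Cfsg.Agent.Mrg.Omega.ThmC.FourMain
import Cfsg.Agent.Mrg.Omega.IId.ThmCQ.Fix
import Cfsg.Agent.Mrg.Omega.HOne.NSSide

-- merged: Cfsg.Agent.Mrg.Omega.IId.ThmCQ.NsBase
section

section


/-!
# THEOREM C with `D`, `q ≥ 4`, `V_P` split or nonsplit over `D = C_V(O²(P))`: the subgroup `S^L`

`M : NatK F S P (zl S P) (cv S P) k`, `4 ≤ |F|`; `PL M` = the elements of `P` which act on `V / D` as elements of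
`SL₂(F)^k` and centralise `D`; `LS M = S ∩ PL M`.  The same facts as in `ThmC/FourOf.lean` (helper334) and
`ThmCQ/SpBase.lean` (helper732).
-/

set_option autoImplicit false
set_option linter.unusedSectionVars false
set_option linter.unusedVariables false

namespace Cfsg.Agent.Omega.IId.ThmCQ.Nsp

open Subgroup Cfsg Cfsg.Agent.ZN Cfsg.Agent.Omega.IId Cfsg.Agent.Omega.ThmC.Four
open Cfsg.Agent.ZN.ChoiceSit hiding zc_le zc_le_zl
open Cfsg.Agent.ZN.ChoiceBase hiding mem_zc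
open Cfsg.Agent.Omega.MinPar Cfsg.Agent.Omega.FrameFF Cfsg.Agent.Omega.FFThm
open Cfsg.Agent.MinSimple.VModule (le_normalizer_zl mem_zc zc_le zc_le_zl)
open Cfsg.Agent.Lib.SL2Mat
open Cfsg.Agent.Omega.NatPair (ap ap_mul ap_one ap_inv_ap ap_ap_inv exists_ap ap_add ap_inj ap_smul)
open Cfsg.Agent.Omega.ThmC (le_centralizer_of_fixed)
open Cfsg.Agent.Omega.ThmC.FourOf (conj_sylow eq_one_of_pow tri_up dg_pow ap_pow_tri)
open Cfsg.Agent.Omega.HOne (cv_le conj_mem_zl conj_mem_cv)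
open Cfsg.Agent.Omega.IId.Cv (e_one e_inv e_div eq_iff e_cv e_mul_cv)
open Cfsg.Agent.Omega.IId.Ns

universe u

section gen

variable {G : Type u} [Group G] {F : Type} [Field F] {S P : Subgroup G} {k : ℕ}
  {M : NatK F S P (zl S P) (cv S P) k}

/-- the action determines the matrices -/
theorem acts_unique {g : G} {A B : Fin k → Matrix.SpecialLinearGroup (Fin 2) F}
    (hA : ActsSL M.e (zl S P) (cv S P) g A) (hB : ActsSL M.e (zl S P) (cv S P) g B) : A = B := by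
  funext i
  refine ap_inj fun x => ?_
  obtain ⟨v, hv, hx, -⟩ := Ns.exists_single (M := M) i x
  rw [← hx, ← hA.1 v hv i, hB.1 v hv i]

theorem acts_pow {g : G} (hg : g ∈ P) {A : Fin k → Matrix.SpecialLinearGroup (Fin 2) F}
    (hA : ActsSL M.e (zl S P) (cv S P) g A) (n : ℕ) : ActsSL M.e (zl S P) (cv S P) (g ^ n) (fun i => A i ^ n) := by
  induction n with
  | zero => simpa only [pow_zero] using Ns.acts_one M
  | succ n ih =>
    have h1 := Ns.acts_mul M (pow_mem hg n) hg ih hA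
    simpa only [pow_succ] using h1

theorem acts_of_cent {g : G} (hg : g ∈ centralizer (zl S P : Set G)) :
    ActsSL M.e (zl S P) (cv S P) g (fun _ => 1) := by
  refine ⟨fun v hv i => ?_, fun d hd => ?_⟩
  · have h1 := mem_centralizer_iff.1 hg v hv
    have h2 : g * v * g⁻¹ = v := by rw [← h1]; group
    rw [h2, ap_one]
  · exact (mem_centralizer_iff.1 hg d (cv_le _ _ hd)).symm

/-- an element of 2-power order of `S` acting as an element of `SL₂(F)^k` is unipotent -/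
theorem exists_up [CharP F 2] (hSP : S ≤ P) (hS : IsPGroup 2 S) {s : G} (hs : s ∈ S)
    {A : Fin k → Matrix.SpecialLinearGroup (Fin 2) F} (hA : ActsSL M.e (zl S P) (cv S P) s A) :
    ∀ i, A i = up (ent (A i) 0 1) := by
  intro i
  have hm : Mv M s i i := fun v hv => by rw [hA.1 v hv i, Ns.ap_eq_zero]
  obtain ⟨v, hv, hve, -⟩ := Ns.exists_single (M := M) i ![1, 0]
  have h10 : ent (A i) 1 0 = 0 := by
    have h1 := (Ns.conj_line hSP hs hm hv).2 (by rw [hve]; rfl)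
    rw [hA.1 v hv i, hve, NatPair.ap_one'] at h1
    simpa using h1
  obtain ⟨n, hn⟩ := hS ⟨s, hs⟩
  have hn' : s ^ 2 ^ n = 1 := congrArg Subtype.val hn
  have h3 := acts_pow (hSP hs) hA (2 ^ n)
  rw [hn'] at h3
  have h4 := acts_unique h3 (Ns.acts_one M)
  have h5 : A i ^ 2 ^ n = 1 := congrFun h4 i
  have h6 := ap_pow_tri h10 (2 ^ n)
  rw [h5, ap_one] at h6
  have h7 : (ent (A i) 0 0) ^ 2 ^ n = 1 := (congrFun h6 0).symm
  have h00 := eq_one_of_pow h7
  have h11 : ent (A i) 1 1 = 1 := by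
    have h8 := det_eq (A i)
    rw [h00, h10] at h8
    simpa using h8
  apply ext_ent
  · rw [h00, up_00]
  · rw [up_01]
  · rw [h10, up_10]
  · rw [h11, up_11]

/-- the elements of `P` which act as elements of `SL₂(F)^k` -/
def PL (M : NatK F S P (zl S P) (cv S P) k) : Subgroup G where
  carrier := {g | g ∈ P ∧ ∃ A, ActsSL M.e (zl S P) (cv S P) g A}
  one_mem' := ⟨one_mem _, _, Ns.acts_one M⟩
  mul_mem' := by
    rintro x y ⟨hx, A, hA⟩ ⟨hy, B, hB⟩
    exact ⟨mul_mem hx hy, _, Ns.acts_mul M hx hy hA hB⟩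
  inv_mem' := by
    rintro x ⟨hx, A, hA⟩
    exact ⟨inv_mem hx, _, Ns.acts_inv M hx hA⟩

theorem PL_le : PL M ≤ P := fun _ h => h.1

theorem PL_normal : P ≤ normalizer (PL M : Set G) :=
  Sd.le_normalizer_of_conj fun g hg x hx => by
    obtain ⟨hxP, A, hA⟩ := hx
    obtain ⟨B, hB⟩ := Sd.acts_conj M hg hxP hA
    exact ⟨mul_mem (mul_mem hg hxP) (inv_mem hg), B, hB⟩

/-- the vectors whose coordinates are all on the lines -/
def LV (M : NatK F S P (zl S P) (cv S P) k) : Set G := {v | v ∈ zl S P ∧ ∀ l, M.e v l 1 = 0}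

end gen

/-- The situation. -/
structure Sit {G : Type u} [Group G] [Finite G] (F : Type) [Field F] (S : Sylow 2 G) (P : Subgroup G) (k : ℕ) :
    Prop where
  hG : IsCharacteristicTwoType G
  h : IsParS (S : Subgroup G) P
  hk : 0 < k
  hF : 4 ≤ Nat.card F

section main

variable {G : Type u} [Group G] [Finite G] {F : Type} [Field F] [Finite F] [CharP F 2] {S : Sylow 2 G}
  {P : Subgroup G} {k : ℕ} (M : NatK F (S : Subgroup G) P (zl (S : Subgroup G) P) (cv (S : Subgroup G) P) k)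

/-- `S^L`: the elements of `S` acting as elements of `SL₂(F)^k` -/
def LS : Subgroup G := (S : Subgroup G) ⊓ PL M

variable {M}

theorem LS_le : LS M ≤ S := inf_le_left

theorem S_le_normalizer_LS (hSP : (S : Subgroup G) ≤ P) : (S : Subgroup G) ≤ normalizer (LS M : Set G) := by
  have h1 : (S : Subgroup G) ≤ normalizer ((S : Subgroup G) : Set G) := le_normalizer
  have h2 : (S : Subgroup G) ≤ normalizer (PL M : Set G) := hSP.trans PL_normal
  intro s hs
  rw [mem_normalizer_iff_cj]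
  rw [LS, cj_inf, cj_eq_of_mem_normalizer (h1 hs), cj_eq_of_mem_normalizer (h2 hs)]

theorem exists_b (hSP : (S : Subgroup G) ≤ P) {s : G} (hs : s ∈ LS M) :
    ∃ b : Fin k → F, ActsSL M.e (zl (S : Subgroup G) P) (cv (S : Subgroup G) P) s fun i => up (b i) := by
  obtain ⟨hsS, hsP, A, hA⟩ := hs
  refine ⟨fun i => ent (A i) 0 1, ?_⟩
  have h1 : A = fun i => up (ent (A i) 0 1) :=
    funext fun i => exists_up (M := M) hSP S.isPGroup' hsS hA i
  rwa [← h1]

theorem mem_LS (hSP : (S : Subgroup G) ≤ P) {s : G} (hs : s ∈ (S : Subgroup G))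
    {A : Fin k → Matrix.SpecialLinearGroup (Fin 2) F}
    (hA : ActsSL M.e (zl (S : Subgroup G) P) (cv (S : Subgroup G) P) s A) : s ∈ LS M :=
  ⟨hs, hSP hs, A, hA⟩

theorem mem_LS_of_cent (hSP : (S : Subgroup G) ≤ P) {s : G} (hs : s ∈ (S : Subgroup G))
    (hc : s ∈ centralizer (zl (S : Subgroup G) P : Set G)) : s ∈ LS M :=
  mem_LS hSP hs (acts_of_cent (M := M) hc)

/-- `LS` is a maximal 2-subgroup of `PL` -/
theorem LS_max (hSP : (S : Subgroup G) ≤ P) {R : Subgroup G} (hR : IsPGroup 2 R) (h1 : LS M ≤ R)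
    (h2 : R ≤ PL M) : R = LS M := by
  obtain ⟨g, hg, hgS⟩ := Half.SymA.exists_conj_le S hSP hR (h2.trans PL_le)
  have h3 : cj g R ≤ LS M := by
    intro x hx
    have hx' := mem_cj.1 hx
    have h4 : x = g * (g⁻¹ * x * g) * g⁻¹ := by group
    refine ⟨?_, ?_⟩
    · rw [h4]
      exact hgS _ hx'
    · rw [h4]
      exact (mem_normalizer_iff.1 (PL_normal hg) _).1 (h2 hx')
  symm
  refine eq_of_le_of_card_ge h1 ?_
  calc Nat.card R = Nat.card (cj g R) := (card_cj g R).symm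
    _ ≤ Nat.card (LS M) := Nat.card_le_card_of_injective _ (inclusion_injective h3)

theorem LS_isPGroup : IsPGroup 2 (LS M) := S.isPGroup'.to_le LS_le

/-! ### The ambient facts -/

variable (q : Sit F S P k)

include q

theorem SP : (S : Subgroup G) ≤ P := q.h.le

theorem V_le_S : zl (S : Subgroup G) P ≤ (S : Subgroup G) := Sd.V_le_S q.hG S q.h

theorem V_comm {v w : G} (hv : v ∈ zl (S : Subgroup G) P) (hw : w ∈ zl (S : Subgroup G) P) : v * w = w * v :=
  Sd.V_comm q.hG S q.h hv hw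

theorem V_sq {v : G} (hv : v ∈ zl (S : Subgroup G) P) : v * v = 1 := Cv.sq_zl q.hG S q.h hv

theorem V_le_LS : zl (S : Subgroup G) P ≤ LS M := by
  intro v hv
  refine mem_LS_of_cent q.h.le (V_le_S q hv) ?_
  rw [mem_centralizer_iff]
  intro w hw
  exact V_comm q hw hv

theorem D_le_zc : cv (S : Subgroup G) P ≤ zc (LS M) := by
  intro d hd
  rw [mem_zc]
  refine ⟨V_le_LS q (cv_le _ _ hd), fun s hs => ?_, ?_⟩
  · obtain ⟨-, -, A, hA⟩ := hs
    exact hA.2 d hd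
  · rw [pow_two]
    exact V_sq q (cv_le _ _ hd)

theorem o2_le_LS : o2 P ≤ LS M := by
  have h1 := q.h.inf_centralizer S q.hG
  intro x hx
  rw [← h1] at hx
  exact mem_LS_of_cent q.h.le hx.1 hx.2

/-- `C_G(O₂(P)) ≤ O₂(P)` -/
theorem cent_o2 : centralizer (o2 P : Set G) ≤ o2 P :=
  ThmC.FourOf.cent_o2 q.hG q.h

theorem cent_LS : centralizer (LS M : Set G) ≤ LS M :=
  (centralizer_le (o2_le_LS q)).trans ((cent_o2 q).trans (o2_le_LS q))

/-- elements acting as `up b` centralise the vectors on the lines -/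
theorem comm_LV {g : G} (hg : g ∈ P) {b : Fin k → F}
    (hA : ActsSL M.e (zl (S : Subgroup G) P) (cv (S : Subgroup G) P) g fun i => up (b i)) {v : G}
    (hv : v ∈ LV M) : g * v * g⁻¹ = v := by
  classical
  have key : ∀ I : Finset (Fin k), ∀ x ∈ P, ActsSL M.e (zl (S : Subgroup G) P) (cv (S : Subgroup G) P) x
      (fun i => if i ∈ I then up (b i) else 1) → x * v * x⁻¹ = v := by
    intro I
    induction I using Finset.induction_on with
    | empty =>
      intro x hx hxA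
      have h1 := Sd.comm_of_acts_one q.hG S q.h M q.hk hx (by simpa using hxA) v hv.1
      rw [h1, mul_inv_cancel_right]
    | insert i I hi ih =>
      intro x hx hxA
      obtain ⟨t, ht⟩ := exists_Al M i (up (b i))
      have h1 := Ns.acts_mul M (inv_mem ht.1) hx (Ns.acts_inv M ht.1 ht.2) hxA
      have e : (fun j => (one1 i (up (b i)) j)⁻¹ * (if j ∈ insert i I then up (b j) else 1)) =
          fun j => if j ∈ I then up (b j) else 1 := by
        funext j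
        by_cases hj : j = i
        · subst hj
          rw [one1_same, if_pos (Finset.mem_insert_self _ _), if_neg hi, inv_mul_cancel]
        · rw [one1_ne hj, inv_one, one_mul]
          simp [Finset.mem_insert, hj]
      rw [e] at h1
      have h2 := ih _ (mul_mem (inv_mem ht.1) hx) h1
      have h3 := fix_line q.hG S q.h q.hk q.hF ht hv.1 (hv.2 i)
      calc x * v * x⁻¹ = t * (t⁻¹ * x * v * (t⁻¹ * x)⁻¹) * t⁻¹ := by group
        _ = t * v * t⁻¹ := by rw [h2]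
        _ = v := h3
  exact key Finset.univ g hg (by simpa using hA)

theorem LV_le_zc {v : G} (hv : v ∈ LV M) : v ∈ zc (LS M) := by
  rw [mem_zc]
  refine ⟨V_le_LS q hv.1, fun s hs => ?_, by rw [pow_two]; exact V_sq q hv.1⟩
  obtain ⟨b, hb⟩ := exists_b q.h.le hs
  have := comm_LV q (q.h.le hs.1) hb hv
  calc s * v = (s * v * s⁻¹) * s := by group
    _ = v * s := by rw [this]

/-- `C_V(S^L)` consists of the vectors on the lines -/
theorem mem_LV_of_cent {v : G} (hv : v ∈ zl (S : Subgroup G) P) (h : ∀ s ∈ LS M, s * v = v * s) : v ∈ LV M := by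
  classical
  refine ⟨hv, fun i => ?_⟩
  obtain ⟨t, ht, hact⟩ := M.unip (Function.update 0 i 1)
  have h1 := h t (mem_LS q.h.le ht hact)
  have h2 : t * v * t⁻¹ = v := by rw [h1]; group
  have h3 := congrFun (hact.1 v hv i) 0
  rw [h2, NatPair.ap_zero'] at h3
  simp only [Function.update_self, up_00, up_01, one_mul] at h3
  exact left_eq_add.1 h3

theorem zc_S_le {z : G} (hz : z ∈ zc (S : Subgroup G)) : z ∈ LV M :=
  mem_LV_of_cent q (zc_le_zl _ P hz) fun s hs => (mem_zc.1 hz).2.1 s hs.1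

/-- `C_P(V) ∩ N(S^L)` centralises `E = Ω₁ Z(S^L)` -/
theorem cent_E : P ⊓ centralizer (zl (S : Subgroup G) P : Set G) ⊓ normalizer (LS M : Set G) ≤
    centralizer (zc (LS M) : Set G) := by
  have hnor : normalizer (LS M : Set G) ≤ normalizer (zc (LS M) : Set G) :=
    MinSimple.VModule.normalizer_le_normalizer_zc _
  refine le_centralizer_of_fixed (S := (S : Subgroup G)) (MinSimple.VModule.zc_comm _) (MinSimple.VModule.zc_sq _)
    (inf_le_right.trans hnor) ?_ S.isPGroup' ((S_le_normalizer_LS q.h.le).trans hnor) ?_ ?_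
  · -- 2-elements
    rintro x ⟨⟨hxP, hxV⟩, hxN⟩ n hn a ha
    have hx2 : IsPGroup 2 (zpowers x) := by
      rintro ⟨y, j, rfl⟩
      refine ⟨n, Subtype.ext ?_⟩
      change (x ^ j) ^ 2 ^ n = 1
      rw [← zpow_natCast, ← zpow_mul, mul_comm j, zpow_mul, zpow_natCast, hn, one_zpow]
    have hR : IsPGroup 2 (LS M ⊔ zpowers x : Subgroup G) :=
      IsPGroup.to_sup_of_normal_left' LS_isPGroup hx2 (zpowers_le.2 hxN)
    have h1 := LS_max q.h.le hR le_sup_left (sup_le inf_le_right (zpowers_le.2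
      ⟨hxP, _, acts_of_cent (M := M) hxV⟩))
    have h2 : x ∈ LS M := by
      rw [← h1]
      exact (le_sup_right : zpowers x ≤ _) (mem_zpowers x)
    exact (mem_zc.1 ha).2.1 x h2
  · -- `S` normalises the group
    have h1 : (S : Subgroup G) ≤ normalizer (P : Set G) := q.h.le.trans le_normalizer
    have h2 : (S : Subgroup G) ≤ normalizer (centralizer (zl (S : Subgroup G) P : Set G) : Set G) := by
      have h3 : (S : Subgroup G) ≤ normalizer (zl (S : Subgroup G) P : Set G) := q.h.le.trans (le_normalizer_zl _ _)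
      intro s hs
      rw [mem_normalizer_iff_cj, cj_centralizer, cj_eq_of_mem_normalizer (h3 hs)]
    have h3 : (S : Subgroup G) ≤ normalizer (normalizer (LS M : Set G) : Set G) := by
      intro s hs
      rw [mem_normalizer_iff_cj, cj_normalizer, cj_eq_of_mem_normalizer (S_le_normalizer_LS q.h.le hs)]
    intro s hs
    rw [mem_normalizer_iff_cj, cj_inf, cj_inf, cj_eq_of_mem_normalizer (h1 hs), cj_eq_of_mem_normalizer (h2 hs),
      cj_eq_of_mem_normalizer (h3 hs)]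
  · -- fixed points
    rintro a ha hfix x ⟨⟨hxP, hxV⟩, -⟩
    have h1 : a ∈ zc (S : Subgroup G) := by
      rw [mem_zc]
      exact ⟨LS_le (zc_le _ ha), hfix, (mem_zc.1 ha).2.2⟩
    exact (mem_centralizer_iff.1 hxV a (zc_le_zl _ P h1)).symm

/-- elements of `P ∩ N(S^L)` with the same matrices have the same action on `E` -/
theorem act_of_eq {x y : G} (hx : x ∈ P) (hxN : x ∈ normalizer (LS M : Set G)) (hy : y ∈ P)
    (hyN : y ∈ normalizer (LS M : Set G)) {A : Fin k → Matrix.SpecialLinearGroup (Fin 2) F}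
    (hA : ActsSL M.e (zl (S : Subgroup G) P) (cv (S : Subgroup G) P) x A)
    (hB : ActsSL M.e (zl (S : Subgroup G) P) (cv (S : Subgroup G) P) y A) :
    Act (zc (LS M)) x y := by
  have h1 : y⁻¹ * x ∈ centralizer (zc (LS M) : Set G) := by
    have h0 : y⁻¹ * x ∈ P := mul_mem (inv_mem hy) hx
    have h0' : y⁻¹ * x ∈ normalizer (LS M : Set G) := mul_mem (inv_mem hyN) hxN
    refine cent_E q ⟨⟨h0, mem_centralizer_iff.2 fun v hv => ?_⟩, h0'⟩
    exact (Sd.comm_of_acts_eq q.hG S q.h M q.hk hy hx hB hA v hv).symm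
  intro e he
  have h2 := mem_centralizer_iff.1 h1 e he
  calc x * e * x⁻¹ = y * ((y⁻¹ * x) * e) * x⁻¹ := by group
    _ = y * (e * (y⁻¹ * x)) * x⁻¹ := by rw [h2]
    _ = y * e * y⁻¹ := by group

omit q in
/-- the elements of `P` acting as unitriangular elements -/
def uni (M : NatK F (S : Subgroup G) P (zl (S : Subgroup G) P) (cv (S : Subgroup G) P) k) : Subgroup G where
  carrier := {g | g ∈ P ∧ ∃ b : Fin k → F, ActsSL M.e (zl (S : Subgroup G) P) (cv (S : Subgroup G) P) g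
    fun i => up (b i)}
  one_mem' := ⟨one_mem P, 0, by
    have : (fun i => up ((0 : Fin k → F) i)) = fun _ => (1 : Matrix.SpecialLinearGroup (Fin 2) F) :=
      funext fun i => up_zero
    rw [this]
    exact Ns.acts_one M⟩
  mul_mem' := by
    rintro g h ⟨hg, b, hb⟩ ⟨hh, c, hc⟩
    refine ⟨mul_mem hg hh, b + c, ?_⟩
    have h1 := Ns.acts_mul M hg hh hb hc
    have : (fun i => up (b i) * up (c i)) = fun i => up ((b + c) i) :=
      funext fun i => up_mul _ _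
    rwa [this] at h1
  inv_mem' := by
    rintro g ⟨hg, b, hb⟩
    refine ⟨inv_mem hg, -b, ?_⟩
    have h1 := Ns.acts_inv M hg hb
    have : (fun i => (up (b i))⁻¹) = fun i => up ((-b) i) := funext fun i => up_inv _
    rwa [this] at h1

/-- every upper triangular element of `SL₂(F)^k` is induced by an element of `P ∩ N(S^L)` -/
theorem exists_norm (A : Fin k → Matrix.SpecialLinearGroup (Fin 2) F) (hA : ∀ i, ent (A i) 1 0 = 0) :
    ∃ h ∈ P, h ∈ normalizer (LS M : Set G) ∧ ActsSL M.e (zl (S : Subgroup G) P) (cv (S : Subgroup G) P) h A := by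
  obtain ⟨g, hg, hgA⟩ := M.lift A
  have hLU : LS M ≤ uni M := fun s hs => ⟨q.h.le hs.1, exists_b q.h.le hs⟩
  have hL'U : cj g (LS M) ≤ uni M := by
    intro x hx
    rw [mem_cj] at hx
    obtain ⟨b, hb⟩ := exists_b q.h.le hx
    have h1 := Ns.acts_mul M (mul_mem hg (q.h.le hx.1)) (inv_mem hg) (Ns.acts_mul M hg (q.h.le hx.1) hgA hb)
      (Ns.acts_inv M hg hgA)
    have h2 : g * (g⁻¹ * x * g) * g⁻¹ = x := by group
    rw [h2] at h1
    refine ⟨?_, fun i => ent (A i) 0 0 ^ 2 * b i, ?_⟩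
    · rw [← h2]
      exact mul_mem (mul_mem hg (q.h.le hx.1)) (inv_mem hg)
    · have h3 : (fun i => A i * up (b i) * (A i)⁻¹) = fun i => up (ent (A i) 0 0 ^ 2 * b i) :=
        funext fun i => tri_up (hA i) (b i)
      rwa [h3] at h1
  have hmax : ∀ R : Subgroup G, IsPGroup 2 R → LS M ≤ R → R ≤ uni M → R = LS M := by
    intro R hR h1 h2
    refine LS_max q.h.le hR h1 fun x hx => ?_
    obtain ⟨h3, b, hb⟩ := h2 hx
    exact ⟨h3, _, hb⟩
  obtain ⟨c, ⟨hcP, b, hcb⟩, hcc⟩ := conj_sylow hLU hL'U LS_isPGroup (isPGroup_cj g LS_isPGroup) hmax (card_cj g _)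
  obtain ⟨t, ht, htb⟩ := M.unip b
  have htP := q.h.le ht
  have htL : t ∈ LS M := mem_LS q.h.le ht htb
  refine ⟨t⁻¹ * c * g, mul_mem (mul_mem (inv_mem htP) hcP) hg, ?_, ?_⟩
  · rw [mem_normalizer_iff_cj, ← cj_cj, ← cj_cj, hcc]
    exact cj_eq_of_mem_normalizer (inv_mem (le_normalizer htL))
  · have h1 := Ns.acts_mul M (mul_mem (inv_mem htP) hcP) hg (Ns.acts_mul M (inv_mem htP) hcP
      (Ns.acts_inv M htP htb) hcb) hgA
    simpa using h1

/-- elements of `P ∩ N(S^L)` normalise the set of the vectors on the lines -/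
theorem norm_LV {x : G} (hx : x ∈ P) (hxN : x ∈ normalizer (LS M : Set G)) {v : G}
    (hv : v ∈ LV M) : x * v * x⁻¹ ∈ LV M := by
  refine mem_LV_of_cent q (conj_mem_zl hx hv.1) fun s hs => ?_
  have h1 : x⁻¹ * s * x ∈ LS M := by
    have := (mem_normalizer_iff.1 (inv_mem hxN) s).1 hs
    rwa [inv_inv] at this
  have h2 := (mem_zc.1 (LV_le_zc q hv)).2.1 _ h1
  calc s * (x * v * x⁻¹) = x * ((x⁻¹ * s * x) * v) * x⁻¹ := by group
    _ = x * (v * (x⁻¹ * s * x)) * x⁻¹ := by rw [h2]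
    _ = x * v * x⁻¹ * s := by group

/-- an element of `P ∩ N(S^L)` acting as `B` is upper triangular -/
theorem tri_of_norm {x : G} (hx : x ∈ P) (hxN : x ∈ normalizer (LS M : Set G))
    {B : Fin k → Matrix.SpecialLinearGroup (Fin 2) F}
    (hB : ActsSL M.e (zl (S : Subgroup G) P) (cv (S : Subgroup G) P) x B) (i : Fin k) :
    ent (B i) 1 0 = 0 := by
  obtain ⟨v, hv, hve, hvj⟩ := Ns.exists_single (M := M) i ![1, 0]
  have h1 : v ∈ LV M := by
    refine ⟨hv, fun j => ?_⟩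
    by_cases hj : j = i
    · rw [hj, hve]; rfl
    · rw [hvj j hj]; rfl
  have h2 := (norm_LV q hx hxN h1).2 i
  rw [hB.1 v hv i, hve, NatPair.ap_one'] at h2
  simpa using h2

end main

end Cfsg.Agent.Omega.IId.ThmCQ.Nsp

end

section


/-!
# THEOREM C with `D`, `q ≥ 4`, nonsplit: elements of `S` which commute with the torus elements (helper732)

`M : NatK F S P (zl S P) (cv S P) k`. The same facts as in `ThmCQ/SpField.lean`, modulo `D = cv S P`:

* `act_up_of`, `act_up` : `s ∈ S` fixes the factor `l` and commutes with the multiplication by `t` on the line (mod `D`):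
  `s` acts as `up b` on the factor `l` (mod `D`);
* `acts_of_mod` : `s ∈ S` acts as `A ∈ SL₂(F)^k` modulo `D`: `ActsSL M.e (zl S P) (cv S P) s A` (`s` centralises `D`);
* `acts_of_field` : both together.
-/

set_option autoImplicit false
set_option linter.unusedSectionVars false

namespace Cfsg.Agent.Omega.IId.ThmCQ.Nsp

open Subgroup Cfsg Cfsg.Agent.ZN Cfsg.Agent.ZN.ChoiceSit Cfsg.Agent.ZN.ChoiceBase Cfsg.Agent.Omega.MinPar
open Cfsg.Agent.Omega.FrameFF Cfsg.Agent.Omega.FFThm Cfsg.Agent.Lib.SL2Mat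
open Cfsg.Agent.Omega.NatPair (ap ap_add ap_mul ap_one ap_inj ext2 ap_zero' ap_one' ap_inv_ap ap_ap_inv)
open Cfsg.Agent.Omega.HOne (cv_le conj_mem_zl conj_mem_cv)
open Cfsg.Agent.Omega.IId.Cv Cfsg.Agent.Omega.IId.Ns
open Cfsg.Agent.Omega.ThmC.FourOf (eq_one_of_pow)

universe u

variable {G : Type u} [Group G] {F : Type} [Field F]

section alg

variable {S P : Subgroup G} {k : ℕ} {M : NatK F S P (zl S P) (cv S P) k}

/-- the `l`-th coordinate of `s v s⁻¹` depends only on the `l`-th coordinate of `v` -/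
theorem conj_congr {s : G} (hs : s ∈ P) {l : Fin k} (hsl : Mv M s l l) {v w : G} (hv : v ∈ zl S P) (hw : w ∈ zl S P)
    (h : M.e v l = M.e w l) : M.e (s * v * s⁻¹) l = M.e (s * w * s⁻¹) l := by
  have h1 : M.e (v * w⁻¹) l = 0 := by rw [e_div M hv hw, Pi.sub_apply, h, sub_self]
  have h2 := (hsl _ (mul_mem hv (inv_mem hw))).2 h1
  have e : s * (v * w⁻¹) * s⁻¹ = (s * v * s⁻¹) * (s * w * s⁻¹)⁻¹ := by group
  rw [e, e_div M (conj_mem_zl hs hv) (conj_mem_zl hs hw), Pi.sub_apply, sub_eq_zero] at h2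
  exact h2

/-- semilinearity -/
theorem exists_tau [Finite F] {s : G} (hs : s ∈ P) {l : Fin k} (hsl : Mv M s l l) :
    ∃ τ : F ≃+* F, ∀ v ∈ zl S P, ∀ w ∈ zl S P, ∀ c : F, M.e w l = c • M.e v l →
      M.e (s * w * s⁻¹) l = τ c • M.e (s * v * s⁻¹) l := by
  classical
  have hs' : s⁻¹ ∈ P := inv_mem hs
  have hsl' : Mv M s⁻¹ l l := hsl.inv hs
  choose u hu hue using fun x : Fin 2 → F => exists_single (M := M) l x
  have hue' : ∀ x, M.e (u x) l = x := fun x => (hue x).1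
  let T : (Fin 2 → F) → (Fin 2 → F) := fun x => M.e (s * u x * s⁻¹) l
  let T' : (Fin 2 → F) → (Fin 2 → F) := fun x => M.e (s⁻¹ * u x * s⁻¹⁻¹) l
  have hT : ∀ v ∈ zl S P, T (M.e v l) = M.e (s * v * s⁻¹) l := fun v hv =>
    conj_congr hs hsl (hu _) hv (hue' _)
  have hT' : ∀ v ∈ zl S P, T' (M.e v l) = M.e (s⁻¹ * v * s⁻¹⁻¹) l := fun v hv =>
    conj_congr hs' hsl' (hu _) hv (hue' _)
  have hadd : ∀ x y, T (x + y) = T x + T y := by
    intro x y
    have h1 : M.e (u x * u y) l = x + y := by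
      rw [M.mul _ (hu x) _ (hu y), Pi.add_apply, hue', hue']
    have h2 := hT _ (mul_mem (hu x) (hu y))
    rw [h1] at h2
    have h3 : s * (u x * u y) * s⁻¹ = (s * u x * s⁻¹) * (s * u y * s⁻¹) := by group
    rw [h2, h3, M.mul _ (conj_mem_zl hs (hu x)) _ (conj_mem_zl hs (hu y)), Pi.add_apply]
  have h1 : ∀ x, T' (T x) = x := by
    intro x
    have h2 := hT' _ (conj_mem_zl hs (hu x))
    change T' (T x) = _ at h2
    rw [h2]
    have h3 : s⁻¹ * (s * u x * s⁻¹) * s⁻¹⁻¹ = u x := by group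
    rw [h3, hue']
  have h2 : ∀ x, T (T' x) = x := by
    intro x
    have h2 := hT _ (conj_mem_zl hs' (hu x))
    change T (T' x) = _ at h2
    rw [h2]
    have h3 : s * (s⁻¹ * u x * s⁻¹⁻¹) * s⁻¹ = u x := by group
    rw [h3, hue']
  have hn : ∀ A : Matrix.SpecialLinearGroup (Fin 2) F, ∃ B : Matrix.SpecialLinearGroup (Fin 2) F,
      ∀ x, T' (ap A (T x)) = ap B x := by
    intro A
    obtain ⟨h, hh, hA, -⟩ := M.lift (one1 l A)
    obtain ⟨B, hB⟩ := M.norm s⁻¹ hs' h hh _ hA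
    refine ⟨B l, fun x => ?_⟩
    have h3 := hB (u x) (hu x) l
    rw [hue'] at h3
    rw [← h3]
    have h4 : ap A (T x) = M.e (h * (s * u x * s⁻¹) * h⁻¹) l := by
      rw [hA _ (conj_mem_zl hs (hu x)) l, one1_same]
    rw [h4, hT' _ (conj_mem_zl hh (conj_mem_zl hs (hu x)))]
    have e : s⁻¹ * (h * (s * u x * s⁻¹) * h⁻¹) * s⁻¹⁻¹ = s⁻¹ * h * s⁻¹⁻¹ * u x * (s⁻¹ * h * s⁻¹⁻¹)⁻¹ := by group
    rw [e]
  obtain ⟨σ, hσ⟩ := NatPair.exists_semi T T' hadd h1 h2 hn
  obtain ⟨τ, hτ⟩ := NatPair.exists_ringEquiv T T' hadd h1 σ hσ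
  refine ⟨τ, fun v hv w hw c hc => ?_⟩
  rw [← hT v hv, ← hT w hw, hc, hτ]

theorem Mv_pow {s : G} (hs : s ∈ P) {l : Fin k} (hsl : Mv M s l l) (j : ℕ) : Mv M (s ^ j) l l := by
  induction j with
  | zero =>
    intro v _
    rw [pow_zero, one_mul, inv_one, mul_one]
  | succ j ih => rw [pow_succ]; exact ih.mul hsl hs

/-- powers -/
theorem tau_pow {s : G} (hs : s ∈ P) {l : Fin k} {τ : F ≃+* F}
    (hτ : ∀ v ∈ zl S P, ∀ w ∈ zl S P, ∀ c : F, M.e w l = c • M.e v l →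
      M.e (s * w * s⁻¹) l = τ c • M.e (s * v * s⁻¹) l) (j : ℕ) :
    ∀ v ∈ zl S P, ∀ w ∈ zl S P, ∀ c : F, M.e w l = c • M.e v l →
      M.e (s ^ j * w * (s ^ j)⁻¹) l = (τ ^ j) c • M.e (s ^ j * v * (s ^ j)⁻¹) l := by
  induction j with
  | zero =>
    intro v _ w _ c hc
    simp only [pow_zero, one_mul, inv_one, mul_one]
    exact hc
  | succ j ih =>
    intro v hv w hw c hc
    have hj : s ^ j ∈ P := pow_mem hs j
    have h1 := hτ _ (conj_mem_zl hj hv) _ (conj_mem_zl hj hw) _ (ih v hv w hw c hc)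
    have e1 : ∀ x : G, s ^ (j + 1) * x * (s ^ (j + 1))⁻¹ = s * (s ^ j * x * (s ^ j)⁻¹) * s⁻¹ := fun x => by
      rw [pow_succ']
      group
    rw [e1, e1, h1, pow_succ']
    rfl

/-- **The field automorphism.** `t ∈ F` is not fixed by a nontrivial automorphism of 2-power order, `s ∈ S` fixes the
factor `l` and commutes (modulo `D`) on the line with the multiplication by `t`: `s` acts as a root element on the
factor `l` of `V / D`. -/
theorem act_up_of [Finite F] [CharP F 2] (hSP : S ≤ P) (hS : IsPGroup 2 S) {t : F}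
    (ht : ∀ (τ : F ≃+* F) (n : ℕ), τ ^ 2 ^ n = 1 → τ t = t → τ = 1) {s : G} (hs : s ∈ S) {l : Fin k}
    (hsl : Mv M s l l)
    (hst : ∀ v ∈ zl S P, ∀ w ∈ zl S P, (∀ j, j ≠ l → M.e v j = 0) → (∀ j, j ≠ l → M.e w j = 0) → M.e v l 1 = 0 →
      M.e w l = t • M.e v l → M.e (s * w * s⁻¹) l = t • M.e (s * v * s⁻¹) l) :
    ∃ b : F, ∀ v ∈ zl S P, M.e (s * v * s⁻¹) l = ap (up b) (M.e v l) := by
  classical
  have hsP := hSP hs
  obtain ⟨τ, hτ⟩ := exists_tau (M := M) hsP hsl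
  -- the order of `τ`
  obtain ⟨n, hn⟩ := hS ⟨s, hs⟩
  have hn' : s ^ 2 ^ n = 1 := congrArg Subtype.val hn
  have hτn : τ ^ 2 ^ n = 1 := by
    ext c
    obtain ⟨v, hv, hve, -⟩ := exists_single (M := M) l ![1, 0]
    obtain ⟨w, hw, hwe, -⟩ := exists_single (M := M) l (c • ![1, 0])
    have h1 := tau_pow hsP hτ (2 ^ n) v hv w hw c (by rw [hve, hwe])
    rw [hn', one_mul, one_mul, inv_one, mul_one, mul_one, hve, hwe] at h1
    have h2 := congrFun h1 0
    simpa using h2.symm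
  have hline : ∀ v ∈ zl S P, M.e v l 1 = 0 → M.e (s * v * s⁻¹) l 1 = 0 := fun v hv h0 =>
    (IId.Ns.conj_line hSP hs hsl hv).2 h0
  obtain ⟨v, hv, hve, hvj⟩ := exists_single (M := M) l ![1, 0]
  have hvl : M.e v l 1 = 0 := by rw [hve]; rfl
  have hsv0 : M.e (s * v * s⁻¹) l 0 ≠ 0 := by
    intro h0
    have h1 := hline v hv hvl
    have h2 : M.e (s * v * s⁻¹) l = 0 := ext2 h0 h1
    have h3 := (hsl v hv).1 h2
    rw [hve] at h3
    exact one_ne_zero (congrFun h3 0)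
  have hτt : τ t = t := by
    obtain ⟨w, hw, hwe, hwj⟩ := exists_single (M := M) l (t • ![1, 0])
    have h1 := hτ v hv w hw t (by rw [hve, hwe])
    have h2 := hst v hv w hw hvj hwj hvl (by rw [hve, hwe])
    rw [h2] at h1
    have h3 := congrFun h1 0
    exact (mul_right_cancel₀ hsv0 h3).symm
  have hτ1 := ht τ n hτn hτt
  subst hτ1
  have hlin : ∀ v ∈ zl S P, ∀ w ∈ zl S P, ∀ c : F, M.e w l = c • M.e v l →
      M.e (s * w * s⁻¹) l = c • M.e (s * v * s⁻¹) l := hτ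
  -- the image of `(1, 0)`
  obtain ⟨c, hce⟩ : ∃ c, M.e (s * v * s⁻¹) l = ![c, 0] := by
    refine ⟨M.e (s * v * s⁻¹) l 0, ?_⟩
    apply ext2
    · rfl
    · exact hline v hv hvl
  have hcpow : ∀ j : ℕ, M.e (s ^ j * v * (s ^ j)⁻¹) l = ![c ^ j, 0] := by
    intro j
    induction j with
    | zero => simpa using hve
    | succ j ih =>
      have e1 : s ^ (j + 1) * v * (s ^ (j + 1))⁻¹ = s * (s ^ j * v * (s ^ j)⁻¹) * s⁻¹ := by
        rw [pow_succ']
        group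
      rw [e1, hlin v hv _ (conj_mem_zl (pow_mem hsP j) hv) (c ^ j) (by
        rw [ih, hve]
        apply ext2 <;> simp), hce]
      apply ext2
      · simp [pow_succ]
      · simp
  have hc1 : c = 1 := by
    have h1 := congrFun (hcpow (2 ^ n)) 0
    rw [hn', one_mul, inv_one, mul_one, hve] at h1
    exact eq_one_of_pow h1.symm
  rw [hc1] at hce
  -- the image of `(0, 1)`
  obtain ⟨w, hw, hwe, -⟩ := exists_single (M := M) l ![0, 1]
  obtain ⟨b, d, hbd⟩ : ∃ b d, M.e (s * w * s⁻¹) l = ![b, d] :=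
    ⟨_, _, ext2 (x := M.e (s * w * s⁻¹) l) (y := ![M.e (s * w * s⁻¹) l 0, M.e (s * w * s⁻¹) l 1]) rfl rfl⟩
  -- the general formula
  have hgen : ∀ x ∈ zl S P, M.e (s * x * s⁻¹) l = ![M.e x l 0 + b * M.e x l 1, d * M.e x l 1] := by
    intro x hx
    obtain ⟨x0, hx0, hx0e, -⟩ := exists_single (M := M) l (M.e x l 0 • ![1, 0])
    obtain ⟨x1, hx1, hx1e, -⟩ := exists_single (M := M) l (M.e x l 1 • ![0, 1])
    have h1 : M.e x l = M.e (x0 * x1) l := by
      rw [M.mul _ hx0 _ hx1, Pi.add_apply, hx0e, hx1e]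
      apply ext2 <;> simp
    have h2 : s * (x0 * x1) * s⁻¹ = (s * x0 * s⁻¹) * (s * x1 * s⁻¹) := by group
    rw [conj_congr hsP hsl hx (mul_mem hx0 hx1) h1, h2, M.mul _ (conj_mem_zl hsP hx0) _ (conj_mem_zl hsP hx1),
      Pi.add_apply, hlin v hv x0 hx0 (M.e x l 0) (by rw [hx0e, hve]), hlin w hw x1 hx1 (M.e x l 1) (by rw [hx1e, hwe]),
      hce, hbd]
    apply ext2
    · simp; ring
    · simp; ring
  have hdpow : ∀ j : ℕ, M.e (s ^ j * w * (s ^ j)⁻¹) l 1 = d ^ j := by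
    intro j
    induction j with
    | zero => simp [hwe]
    | succ j ih =>
      have e1 : s ^ (j + 1) * w * (s ^ (j + 1))⁻¹ = s * (s ^ j * w * (s ^ j)⁻¹) * s⁻¹ := by
        rw [pow_succ']
        group
      rw [e1, hgen _ (conj_mem_zl (pow_mem hsP j) hw)]
      change d * M.e (s ^ j * w * (s ^ j)⁻¹) l 1 = _
      rw [ih, pow_succ']
  have hd1 : d = 1 := by
    have h1 := hdpow (2 ^ n)
    rw [hn', one_mul, inv_one, mul_one, hwe] at h1
    exact eq_one_of_pow h1.symm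
  refine ⟨b, fun x hx => ?_⟩
  rw [hgen x hx, hd1]
  apply ext2
  · rw [ap_zero', up_00, up_01]; simp
  · rw [ap_one', up_10, up_11]; simp

end alg

section main

variable [Finite G] [CharP F 2] (hG : IsCharacteristicTwoType G) (S : Sylow 2 G) {P : Subgroup G}
  (h : IsParS (S : Subgroup G) P) {k : ℕ} (hk : 0 < k)
  {M : NatK F (S : Subgroup G) P (zl (S : Subgroup G) P) (cv (S : Subgroup G) P) k}

omit h in
/-- the literal form of helper914 -/
theorem act_up [Finite F] (hSP : (S : Subgroup G) ≤ P) {t : F}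
    (ht : ∀ (τ : F ≃+* F) (n : ℕ), τ ^ 2 ^ n = 1 → τ t = t → τ = 1) {s : G} (hs : s ∈ (S : Subgroup G)) {l : Fin k}
    (hm : Mv M s l l)
    (hst : ∀ v ∈ zl (S : Subgroup G) P, ∀ w ∈ zl (S : Subgroup G) P, M.e v l 1 = 0 → M.e w l = t • M.e v l →
      M.e (s * w * s⁻¹) l = t • M.e (s * v * s⁻¹) l) :
    ∃ b : F, ∀ v ∈ zl (S : Subgroup G) P, M.e (s * v * s⁻¹) l = ap (up b) (M.e v l) :=
  act_up_of (M := M) hSP S.isPGroup' ht hs hm fun v hv w hw _ _ h0 hc => hst v hv w hw h0 hc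

include hG h hk in
/-- an element of `S` which acts as an element of `SL₂(F)^k` on `V / D` centralises `D` -/
theorem acts_of_mod {s : G} (hs : s ∈ (S : Subgroup G)) {b : Fin k → F}
    (hA : ∀ v ∈ zl (S : Subgroup G) P, ∀ i, M.e (s * v * s⁻¹) i = ap (up (b i)) (M.e v i)) :
    ActsSL M.e (zl (S : Subgroup G) P) (cv (S : Subgroup G) P) s fun i => up (b i) := by
  have hsP : s ∈ P := h.le hs
  refine ⟨hA, fun d hd => ?_⟩
  obtain ⟨t, ht, htb⟩ := M.unip b
  have htP : t ∈ P := h.le ht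
  have h1 : s * t⁻¹ ∈ kern M := by
    refine ⟨mul_mem hsP (inv_mem htP), fun v hv => funext fun i => ?_⟩
    have e : s * t⁻¹ * v * (s * t⁻¹)⁻¹ = s * (t⁻¹ * v * t⁻¹⁻¹) * s⁻¹ := by group
    have h2 := (IId.Ns.acts_inv M htP htb).1 v hv i
    rw [e, hA _ (conj_mem_zl (inv_mem htP) hv) i, h2, ap_ap_inv]
  have h2 := comm_of_quot hG S h M hk (mul_mem hs (inv_mem ht)) h1 d (cv_le _ _ hd)
  have h3 := htb.2 d hd
  calc s * d = s * t⁻¹ * (t * d) := by group
    _ = s * t⁻¹ * d * t := by rw [h3]; group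
    _ = d * (s * t⁻¹) * t := by rw [h2]
    _ = d * s := by group

include hG h hk in
/-- **`C_S(D^) ≤ S^L`**: `s ∈ S` fixes all factors and commutes (modulo `D`) on all lines with the multiplication by `t`:
`s` acts as a root element on all factors and centralises `D`. -/
theorem acts_of_field [Finite F] {t : F}
    (ht : ∀ (τ : F ≃+* F) (n : ℕ), τ ^ 2 ^ n = 1 → τ t = t → τ = 1) {s : G} (hs : s ∈ (S : Subgroup G))
    (hsl : ∀ l, Mv M s l l)
    (hst : ∀ l, ∀ v ∈ zl (S : Subgroup G) P, ∀ w ∈ zl (S : Subgroup G) P, (∀ j, j ≠ l → M.e v j = 0) →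
      (∀ j, j ≠ l → M.e w j = 0) → M.e v l 1 = 0 → M.e w l = t • M.e v l →
      M.e (s * w * s⁻¹) l = t • M.e (s * v * s⁻¹) l) :
    ∃ b : Fin k → F, ActsSL M.e (zl (S : Subgroup G) P) (cv (S : Subgroup G) P) s fun i => up (b i) := by
  choose b hb using fun l => act_up_of (M := M) h.le S.isPGroup' ht hs (hsl l) (hst l)
  exact ⟨b, acts_of_mod hG S h hk hs fun v hv i => hb i v hv⟩

end main

end Cfsg.Agent.Omega.IId.ThmCQ.Nsp

end

end

-- merged: Cfsg.Agent.Mrg.Omega.IId.ThmCQ.NsTor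
section

section


/-!
# THEOREM C with `D`, `q ≥ 4`, nonsplit: the torus part `Zf M i` of the line in `N_i`

`M : NatK F S P (zl S P) (cv S P) k`, `4 ≤ |F|`.  `Zf M i` is generated by the `[x, r]`, where `x` acts as `dg t` in the
`i`-th factor only, and `r ∈ Nc M i` is on the line.

* `Zf_eq` : `Zf M i = {[x, r] | r ∈ Nc M i on the line}` for every `x` acting as `dg t`, `t ≠ 1`;
* `eq_one_of_Zf` : `Zf M i ∩ D = 1`;  `exists_Zf` : `Zf M i` covers the line;
* `conj_Zf` : `S` permutes the `Zf M i`.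
-/

set_option autoImplicit false
set_option linter.unusedSectionVars false
set_option linter.unusedVariables false

namespace Cfsg.Agent.Omega.IId.ThmCQ.Nsp

open Subgroup Cfsg Cfsg.Agent.ZN Cfsg.Agent.Omega.IId Cfsg.Agent.Omega.ThmC.Four
open Cfsg.Agent.ZN.ChoiceSit hiding zc_le zc_le_zl
open Cfsg.Agent.ZN.ChoiceBase hiding mem_zc
open Cfsg.Agent.Omega.MinPar Cfsg.Agent.Omega.FrameFF Cfsg.Agent.Omega.FFThm
open Cfsg.Agent.MinSimple.VModule (le_normalizer_zl mem_zc zc_le zc_le_zl)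
open Cfsg.Agent.Lib.SL2Mat
open Cfsg.Agent.Omega.NatPair (ap ap_mul ap_one ap_inv_ap ap_ap_inv exists_ap ap_add ap_inj ap_smul)
open Cfsg.Agent.Omega.HOne (cv_le conj_mem_zl conj_mem_cv)
open Cfsg.Agent.Omega.IId.Cv (e_one e_inv e_div eq_iff e_cv e_mul_cv)
open Cfsg.Agent.Omega.IId.Ns

universe u

section zf

variable {G : Type u} [Group G] {F : Type} [Field F] {S P : Subgroup G} {k : ℕ}
  (M : NatK F S P (zl S P) (cv S P) k)

/-- the torus part of the line in `Nc M i` -/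
def Zf (i : Fin k) : Subgroup G :=
  closure {z | ∃ (t : F) (ht : t ≠ 0) (x : G), Al M i x (dg t ht) ∧ ∃ r ∈ Nc M i, M.e r i 1 = 0 ∧
    z = x * r * x⁻¹ * r⁻¹}

variable {M}

theorem mem_Zf_of {i : Fin k} {t : F} {ht : t ≠ 0} {x r : G} (hx : Al M i x (dg t ht)) (hr : r ∈ Nc M i)
    (h0 : M.e r i 1 = 0) : x * r * x⁻¹ * r⁻¹ ∈ Zf M i := subset_closure ⟨t, ht, x, hx, r, hr, h0, rfl⟩

/-- the coordinate of `[x, r]` -/
theorem e_comm {i : Fin k} {t : F} {ht : t ≠ 0} {x r : G} (hx : Al M i x (dg t ht)) (hr : r ∈ zl S P)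
    (h0 : M.e r i 1 = 0) : M.e (x * r * x⁻¹ * r⁻¹) i = ![(t - 1) * M.e r i 0, 0] := by
  rw [hx.comm_same hr]
  apply NatPair.ext2
  · rw [Pi.sub_apply, NatPair.ap_zero', dg_00, dg_01, h0]; simp; ring
  · rw [Pi.sub_apply, NatPair.ap_one', dg_10, dg_11, h0]; simp

/-- the elements of `Nc M i` on the line -/
def NL (M : NatK F S P (zl S P) (cv S P) k) (i : Fin k) : Subgroup G where
  carrier := {r | r ∈ Nc M i ∧ M.e r i 1 = 0}
  one_mem' := ⟨one_mem _, by rw [Cv.e_one M]; rfl⟩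
  mul_mem' := by
    rintro a b ⟨ha, ha0⟩ ⟨hb, hb0⟩
    refine ⟨mul_mem ha hb, ?_⟩
    rw [M.mul a (Nc_le_zl i ha) b (Nc_le_zl i hb), Pi.add_apply, Pi.add_apply, ha0, hb0, add_zero]
  inv_mem' := by
    rintro a ⟨ha, ha0⟩
    refine ⟨inv_mem ha, ?_⟩
    rw [Cv.e_inv M (Nc_le_zl i ha), Pi.neg_apply, Pi.neg_apply, ha0, neg_zero]

theorem mem_NL {i : Fin k} {r : G} : r ∈ NL M i ↔ r ∈ Nc M i ∧ M.e r i 1 = 0 := Iff.rfl

theorem NL_le (i : Fin k) : NL M i ≤ Nc M i := fun _ h => h.1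

theorem Al.mv {i : Fin k} {x : G} {B : Matrix.SpecialLinearGroup (Fin 2) F} (hx : Al M i x B) : Mv M x i i :=
  fun v hv => by rw [hx.same hv, Ns.ap_eq_zero]

theorem tri_NL {i : Fin k} {x r : G} {B : Matrix.SpecialLinearGroup (Fin 2) F} (hx : Al M i x B)
    (hB : ent B 1 0 = 0) (hr : r ∈ NL M i) : x * r * x⁻¹ ∈ NL M i := by
  refine ⟨Nc_norm hx.1 (Al.mv hx) hr.1, ?_⟩
  rw [hx.same (Nc_le_zl i hr.1), NatPair.ap_one', hB, hr.2]
  ring

theorem Zf_le_NL (i : Fin k) : Zf M i ≤ NL M i := by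
  rw [Zf, closure_le]
  rintro _ ⟨t, ht, x, hx, r, hr, h0, rfl⟩
  exact mul_mem (tri_NL hx (by simp) ⟨hr, h0⟩) (inv_mem (⟨hr, h0⟩ : r ∈ NL M i))

theorem Zf_le (i : Fin k) : Zf M i ≤ Nc M i := (Zf_le_NL i).trans (NL_le i)

theorem Zf_le_V (i : Fin k) : Zf M i ≤ zl S P := (Zf_le i).trans (Nc_le_zl i)

/-- `g ∈ P` moving the `i`-th factor to the `j`-th conjugates `Nc M i` to `Nc M j` -/
theorem Nc_conj {i j : Fin k} {g : G} (hg : g ∈ P) (hm : Mv M g i j) {n : G} (hn : n ∈ Nc M i) :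
    g * n * g⁻¹ ∈ Nc M j := by
  induction hn using closure_induction with
  | mem x hx =>
    obtain ⟨y, hy, v, hv, rfl⟩ := hx
    obtain ⟨B, hB⟩ := exists_of_Fc hy
    obtain ⟨B', hB'⟩ := conj_Al hg hm hB
    have e : g * (y * v * y⁻¹ * v⁻¹) * g⁻¹ = (g * y * g⁻¹) * (g * v * g⁻¹) * (g * y * g⁻¹)⁻¹ * (g * v * g⁻¹)⁻¹ := by
      group
    rw [e]
    exact mem_Nc hB' (conj_mem_zl hg hv)
  | one => rw [mul_one, mul_inv_cancel]; exact one_mem _
  | mul x y _ _ hx hy =>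
    have e : g * (x * y) * g⁻¹ = (g * x * g⁻¹) * (g * y * g⁻¹) := by group
    rw [e]; exact mul_mem hx hy
  | inv x _ hx =>
    have e : g * x⁻¹ * g⁻¹ = (g * x * g⁻¹)⁻¹ := by group
    rw [e]; exact inv_mem hx

end zf

section main

variable {G : Type u} [Group G] [Finite G] {F : Type} [Field F] [Finite F] [CharP F 2] {S : Sylow 2 G}
  {P : Subgroup G} {k : ℕ} {M : NatK F (S : Subgroup G) P (zl (S : Subgroup G) P) (cv (S : Subgroup G) P) k}
  (q : Sit F S P k)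

include q

/-- `[x, r]` is multiplicative in `r` -/
theorem comm_mul {x r r' : G} (hx : x ∈ P) (hr : r ∈ zl (S : Subgroup G) P) (hr' : r' ∈ zl (S : Subgroup G) P) :
    x * (r * r') * x⁻¹ * (r * r')⁻¹ = (x * r * x⁻¹ * r⁻¹) * (x * r' * x⁻¹ * r'⁻¹) := by
  have h1 : r⁻¹ * (x * r' * x⁻¹) = (x * r' * x⁻¹) * r⁻¹ := V_comm q (inv_mem hr) (conj_mem_zl hx hr')
  have h2 : r⁻¹ * r'⁻¹ = r'⁻¹ * r⁻¹ := V_comm q (inv_mem hr) (inv_mem hr')
  calc x * (r * r') * x⁻¹ * (r * r')⁻¹ = (x * r * x⁻¹) * (x * r' * x⁻¹) * (r'⁻¹ * r⁻¹) := by group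
    _ = (x * r * x⁻¹) * ((x * r' * x⁻¹) * r⁻¹) * r'⁻¹ := by rw [← h2]; group
    _ = (x * r * x⁻¹) * (r⁻¹ * (x * r' * x⁻¹)) * r'⁻¹ := by rw [h1]
    _ = _ := by group

/-- `{[x, r] | r ∈ NL M i}` -/
def Ix (M : NatK F (S : Subgroup G) P (zl (S : Subgroup G) P) (cv (S : Subgroup G) P) k) (i : Fin k)
    (x : G) (hx : x ∈ P) : Subgroup G where
  carrier := {z | ∃ r ∈ NL M i, z = x * r * x⁻¹ * r⁻¹}
  one_mem' := ⟨1, one_mem _, by group⟩
  mul_mem' := by
    rintro _ _ ⟨r, hr, rfl⟩ ⟨r', hr', rfl⟩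
    exact ⟨r * r', mul_mem hr hr', (comm_mul q hx (Nc_le_zl i hr.1) (Nc_le_zl i hr'.1)).symm⟩
  inv_mem' := by
    rintro _ ⟨r, hr, rfl⟩
    refine ⟨r, hr, ?_⟩
    have hV : x * r * x⁻¹ * r⁻¹ ∈ zl (S : Subgroup G) P :=
      mul_mem (conj_mem_zl hx (Nc_le_zl i hr.1)) (inv_mem (Nc_le_zl i hr.1))
    exact inv_eq_of_mul_eq_one_left (V_sq q hV)

theorem hω : ∃ ω : F, ω ≠ 0 ∧ ω ≠ 1 := exists_omega q.hF

/-- an element `[y, r]` without `i`-th coordinate is trivial -/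
theorem eq_one_of_comm {i : Fin k} {t : F} {ht : t ≠ 0} {y r : G} (hy : Al M i y (dg t ht)) (hr : r ∈ NL M i)
    (h0 : M.e (y * r * y⁻¹ * r⁻¹) i 0 = 0) : y * r * y⁻¹ * r⁻¹ = 1 := by
  have hrV := Nc_le_zl i hr.1
  rw [e_comm hy hrV hr.2] at h0
  have h1 : (t - 1) * M.e r i 0 = 0 := h0
  have h2 : y * r * y⁻¹ = r := by
    rcases mul_eq_zero.1 h1 with h3 | h3
    · have ht1 : t = 1 := sub_eq_zero.1 h3
      have h4 : Al M i y 1 := hy.of_eq (by
        apply ext_ent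
        · rw [dg_00, ht1]; rfl
        · rw [dg_01]; rfl
        · rw [dg_10]; rfl
        · rw [dg_11, ht1, inv_one]; rfl)
      have h5 := Al.eq_V q.hG S q.h q.hk h4 (Al.one i) hrV
      rw [h5]; group
    · exact fix_ker q.hG S q.h q.hk q.hF hy hrV (NatPair.ext2 h3 hr.2)
  rw [h2, mul_inv_cancel]

theorem comm_V_of_Al {i : Fin k} {x y : G} {A B : Matrix.SpecialLinearGroup (Fin 2) F} (hx : Al M i x A)
    (hy : Al M i y B) (hAB : A * B = B * A) {v : G} (hv : v ∈ zl (S : Subgroup G) P) :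
    x * (y * v * y⁻¹) * x⁻¹ = y * (x * v * x⁻¹) * y⁻¹ := by
  have h1 := Al.eq_V q.hG S q.h q.hk (hx.mul hy) ((hy.mul hx).of_eq hAB.symm) hv
  calc x * (y * v * y⁻¹) * x⁻¹ = x * y * v * (x * y)⁻¹ := by group
    _ = y * x * v * (y * x)⁻¹ := h1
    _ = _ := by group

omit q in
theorem dg_comm {t t' : F} (ht : t ≠ 0) (ht' : t' ≠ 0) : dg t ht * dg t' ht' = dg t' ht' * dg t ht := by
  apply ext_ent
  · simp [ent_mul]; ring
  · simp [ent_mul]
  · simp [ent_mul]
  · simp [ent_mul]; ring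

/-- `{[y, r]} ≤ {[x, r]}` -/
theorem Ix_le {i : Fin k} {t t' : F} {ht : t ≠ 0} {ht' : t' ≠ 0} (ht1 : t ≠ 1) {x y : G} (hx : Al M i x (dg t ht))
    (hy : Al M i y (dg t' ht')) : Ix q M i y hy.1 ≤ Ix q M i x hx.1 := by
  -- the map `z ↦ [x, z]` on `Ix y`
  have hmap : ∀ z : Ix q M i y hy.1, x * (z : G) * x⁻¹ * (z : G)⁻¹ ∈ Ix q M i y hy.1 := by
    rintro ⟨_, r, hr, rfl⟩
    have hrV := Nc_le_zl i hr.1
    have h1 : x * (y * r * y⁻¹ * r⁻¹) * x⁻¹ = y * (x * r * x⁻¹) * y⁻¹ * (x * r * x⁻¹)⁻¹ := by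
      rw [← comm_V_of_Al q hx hy (dg_comm ht ht') hrV]; group
    refine mul_mem ?_ (inv_mem ⟨r, hr, rfl⟩)
    change x * (y * r * y⁻¹ * r⁻¹) * x⁻¹ ∈ _
    rw [h1]
    exact ⟨_, tri_NL hx (by simp) hr, rfl⟩
  have hV : ∀ z ∈ Ix q M i y hy.1, z ∈ zl (S : Subgroup G) P := by
    rintro _ ⟨r, hr, rfl⟩
    exact mul_mem (conj_mem_zl hy.1 (Nc_le_zl i hr.1)) (inv_mem (Nc_le_zl i hr.1))
  have hL : ∀ z ∈ Ix q M i y hy.1, z ∈ NL M i := by
    rintro _ ⟨r, hr, rfl⟩
    exact mul_mem (tri_NL hy (by simp) hr) (inv_mem hr)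
  have hinj : Function.Injective (fun z : Ix q M i y hy.1 =>
      (⟨x * (z : G) * x⁻¹ * (z : G)⁻¹, hmap z⟩ : Ix q M i y hy.1)) := by
    intro a b hab
    have h1 : x * (a : G) * x⁻¹ * (a : G)⁻¹ = x * (b : G) * x⁻¹ * (b : G)⁻¹ := congrArg Subtype.val hab
    have haV := hV _ a.2
    have hbV := hV _ b.2
    have h2 := comm_mul q hx.1 haV (inv_mem hbV)
    have h3 := comm_mul q hx.1 hbV (inv_mem hbV)
    rw [h1, ← h3, mul_inv_cancel] at h2
    have h4 : x * ((a : G) * (b : G)⁻¹) * x⁻¹ * ((a : G) * (b : G)⁻¹)⁻¹ = 1 := by rw [h2]; group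
    -- the coordinate of `c = a b⁻¹`
    have hc : (a : G) * (b : G)⁻¹ ∈ Ix q M i y hy.1 := mul_mem a.2 (inv_mem b.2)
    have hcV := hV _ hc
    have h5 := e_comm hx hcV (hL _ hc).2
    rw [h4, Cv.e_one M] at h5
    have h6 : (t - 1) * M.e ((a : G) * (b : G)⁻¹) i 0 = 0 := (congrFun h5 0).symm
    have h7 : M.e ((a : G) * (b : G)⁻¹) i 0 = 0 := by
      rcases mul_eq_zero.1 h6 with h | h
      · exact absurd (sub_eq_zero.1 h) ht1
      · exact h
    obtain ⟨r, hr, hcr⟩ := hc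
    rw [hcr] at h7
    have h8 := eq_one_of_comm q hy hr h7
    rw [← hcr] at h8
    exact Subtype.ext (mul_inv_eq_one.1 h8)
  have hsurj := Finite.surjective_of_injective hinj
  intro z hz
  obtain ⟨w, hw⟩ := hsurj ⟨z, hz⟩
  have h1 : x * (w : G) * x⁻¹ * (w : G)⁻¹ = z := congrArg Subtype.val hw
  exact ⟨w, hL _ w.2, h1.symm⟩

/-- `Zf M i = {[x, r] | r ∈ NL M i}` -/
theorem Zf_eq {i : Fin k} {t : F} {ht : t ≠ 0} (ht1 : t ≠ 1) {x : G} (hx : Al M i x (dg t ht)) :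
    Zf M i = Ix q M i x hx.1 := by
  apply le_antisymm
  · rw [Zf, closure_le]
    rintro _ ⟨t', ht', y, hy, r, hr, h0, rfl⟩
    exact Ix_le q ht1 hx hy ⟨r, ⟨hr, h0⟩, rfl⟩
  · rintro _ ⟨r, hr, rfl⟩
    exact mem_Zf_of hx hr.1 hr.2

theorem mem_Zf {i : Fin k} {t : F} {ht : t ≠ 0} (ht1 : t ≠ 1) {x : G} (hx : Al M i x (dg t ht)) {z : G} :
    z ∈ Zf M i ↔ ∃ r ∈ NL M i, z = x * r * x⁻¹ * r⁻¹ := by rw [Zf_eq q ht1 hx]; rfl

/-- `Zf M i ∩ D = 1` -/
theorem eq_one_of_Zf {i : Fin k} {z : G} (hz : z ∈ Zf M i) (h0 : M.e z i 0 = 0) : z = 1 := by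
  obtain ⟨t, ht, ht1⟩ := exists_omega q.hF
  obtain ⟨x, hx⟩ := exists_Al M i (dg t ht)
  obtain ⟨r, hr, rfl⟩ := (mem_Zf q ht1 hx).1 hz
  exact eq_one_of_comm q hx hr h0

/-- `Zf M i` covers the line -/
theorem exists_Zf (i : Fin k) (c : F) : ∃ z ∈ Zf M i, M.e z i = ![c, 0] := by
  obtain ⟨t, ht, ht1⟩ := exists_omega q.hF
  obtain ⟨x, hx⟩ := exists_Al M i (dg t ht)
  obtain ⟨r, hr, he⟩ := Sd.Nc_surj M i ![c / (t - 1), 0]
  have h0 : M.e r i 1 = 0 := by rw [he]; rfl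
  refine ⟨x * r * x⁻¹ * r⁻¹, mem_Zf_of hx hr h0, ?_⟩
  rw [e_comm hx (Nc_le_zl i hr) h0, he]
  have h1 : t - 1 ≠ 0 := sub_ne_zero.2 ht1
  apply NatPair.ext2
  · simp; field_simp
  · simp

theorem Zf_inj {i : Fin k} {z w : G} (hz : z ∈ Zf M i) (hw : w ∈ Zf M i) (h0 : M.e z i 0 = M.e w i 0) : z = w := by
  have h1 : z * w⁻¹ ∈ Zf M i := mul_mem hz (inv_mem hw)
  have h2 : M.e (z * w⁻¹) i 0 = 0 := by
    rw [e_div M (Zf_le_V i hz) (Zf_le_V i hw), Pi.sub_apply, Pi.sub_apply, h0, sub_self]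
  exact mul_inv_eq_one.1 (eq_one_of_Zf q h1 h2)

theorem Zf_ne_bot (i : Fin k) : Zf M i ≠ ⊥ := by
  intro h0
  obtain ⟨z, hz, he⟩ := exists_Zf q (M := M) i 1
  rw [h0, mem_bot] at hz
  rw [hz, Cv.e_one M] at he
  have := congrFun he 0
  simp at this

theorem Zf_LV {i : Fin k} {z : G} (hz : z ∈ Zf M i) : z ∈ LV M := by
  refine ⟨Zf_le_V i hz, fun l => ?_⟩
  by_cases hl : l = i
  · rw [hl]; exact (Zf_le_NL i hz).2
  · rw [Sd.e_Nc M (Zf_le i hz) hl]; rfl

theorem Zf_le_zc (i : Fin k) : Zf M i ≤ zc (LS M) := fun _ hz => LV_le_zc q (Zf_LV q hz)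

/-- the elements of `P` which move the `i`-th factor to the `j`-th and the line to the line -/
theorem conj_Zf {i j : Fin k} {g : G} (hg : g ∈ P) (hm : Mv M g i j)
    (hl : ∀ v ∈ zl (S : Subgroup G) P, M.e (g * v * g⁻¹) j 1 = 0 ↔ M.e v i 1 = 0) {z : G} (hz : z ∈ Zf M i) :
    g * z * g⁻¹ ∈ Zf M j := by
  unfold Zf at hz
  induction hz using closure_induction with
  | mem z hz =>
    obtain ⟨t, ht, x, hx, r, hr, h0, rfl⟩ := hz
    obtain ⟨B, hB⟩ := conj_Al hg hm hx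
    have hB0 : ent B 1 0 = 0 := by
      obtain ⟨u, hu, h1, -⟩ := Ns.exists_single (M := M) j ![1, 0]
      have hv : g⁻¹ * u * g ∈ zl (S : Subgroup G) P := by
        have := conj_mem_zl (inv_mem hg) hu
        rwa [inv_inv] at this
      have e : g * (g⁻¹ * u * g) * g⁻¹ = u := by group
      have h2 := hl _ hv
      rw [e, h1] at h2
      have h3 : M.e (g⁻¹ * u * g) i 1 = 0 := h2.1 rfl
      have h4 : M.e (x * (g⁻¹ * u * g) * x⁻¹) i 1 = 0 := by
        rw [hx.same hv, NatPair.ap_one', dg_10, h3]; ring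
      have h5 := (hl _ (hx.V hv)).2 h4
      have e2 : g * (x * (g⁻¹ * u * g) * x⁻¹) * g⁻¹ = (g * x * g⁻¹) * u * (g * x * g⁻¹)⁻¹ := by group
      rw [e2, hB.same hu, h1, NatPair.ap_one'] at h5
      simpa using h5
    obtain ⟨m, c, hmc⟩ := exists_dg_up hB0
    obtain ⟨d, hd⟩ := exists_Al M j (dg (m : F) m.ne_zero)
    obtain ⟨w, hw⟩ := exists_Al M j (up c)
    have hrN : r ∈ NL M i := ⟨hr, h0⟩
    have hrV := Nc_le_zl i hr
    have hr' : g * r * g⁻¹ ∈ NL M j := ⟨Nc_conj hg hm hr, (hl _ hrV).2 h0⟩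
    have hr'V := Nc_le_zl j hr'.1
    have h1 : (g * x * g⁻¹) * (g * r * g⁻¹) * (g * x * g⁻¹)⁻¹ = d * (g * r * g⁻¹) * d⁻¹ := by
      have h2 := Al.eq_V q.hG S q.h q.hk (hB.of_eq hmc) (hd.mul hw) hr'V
      have h3 := fix_line q.hG S q.h q.hk q.hF hw hr'V hr'.2
      rw [h2]
      calc d * w * (g * r * g⁻¹) * (d * w)⁻¹ = d * (w * (g * r * g⁻¹) * w⁻¹) * d⁻¹ := by group
        _ = _ := by rw [h3]
    have e : g * (x * r * x⁻¹ * r⁻¹) * g⁻¹ =
        (g * x * g⁻¹) * (g * r * g⁻¹) * (g * x * g⁻¹)⁻¹ * (g * r * g⁻¹)⁻¹ := by group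
    rw [e, h1]
    exact mem_Zf_of hd hr'.1 hr'.2
  | one => rw [mul_one, mul_inv_cancel]; exact one_mem _
  | mul x y _ _ hx hy =>
    have e : g * (x * y) * g⁻¹ = (g * x * g⁻¹) * (g * y * g⁻¹) := by group
    rw [e]; exact mul_mem hx hy
  | inv x _ hx =>
    have e : g * x⁻¹ * g⁻¹ = (g * x * g⁻¹)⁻¹ := by group
    rw [e]; exact inv_mem hx

/-- `S` permutes the `Zf M i` -/
theorem conj_Zf_S {i j : Fin k} {s : G} (hs : s ∈ (S : Subgroup G)) (hm : Mv M s i j) {v : G} :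
    v ∈ Zf M i ↔ s * v * s⁻¹ ∈ Zf M j := by
  have hsP := q.h.le hs
  refine ⟨conj_Zf q hsP hm fun v hv => Ns.conj_line q.h.le hs hm hv, fun h => ?_⟩
  have hm' := hm.inv hsP
  have h1 := conj_Zf q (inv_mem hsP) hm' (fun v hv => Ns.conj_line q.h.le (inv_mem hs) hm' hv) h
  have e : s⁻¹ * (s * v * s⁻¹) * s⁻¹⁻¹ = v := by group
  rwa [e] at h1

/-- elements acting as an upper triangular matrix normalise `Zf M i` -/
theorem conj_Zf_Al {i : Fin k} {x : G} {B : Matrix.SpecialLinearGroup (Fin 2) F} (hx : Al M i x B)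
    (hB : ent B 1 0 = 0) {z : G} (hz : z ∈ Zf M i) : x * z * x⁻¹ ∈ Zf M i := by
  refine conj_Zf q hx.1 (Al.mv hx) (fun v hv => ?_) hz
  rw [hx.same hv, NatPair.ap_one', hB, zero_mul, zero_add]
  have hd := det_eq B
  rw [hB, mul_zero, sub_zero] at hd
  have h11 : ent B 1 1 ≠ 0 := fun h0 => by rw [h0, mul_zero] at hd; exact zero_ne_one hd
  exact ⟨fun h => (mul_eq_zero.1 h).resolve_left h11, fun h => by rw [h, mul_zero]⟩

/-- the elements acting on the factor `j ≠ i` only centralise `Nc M i` -/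
theorem Al_comm_Nc {i j : Fin k} (hij : i ≠ j) {x n : G} {B : Matrix.SpecialLinearGroup (Fin 2) F} (hx : Al M j x B)
    (hn : n ∈ Nc M i) : x * n = n * x := Sd.Fc_comm_Nc q.hG S q.h M (hω q) hij hx.mem_Fc hn

/-- the vectors on the lines are the products of elements of the `Zf M i` and of `D` -/
theorem exists_dw {v : G} (hv : v ∈ LV M) :
    ∃ d ∈ cv (S : Subgroup G) P, ∃ w ∈ ⨆ l, Zf M l, v = d * w := by
  classical
  have key : ∀ I : Finset (Fin k), ∀ v ∈ LV M, (∀ j, j ∉ I → M.e v j = 0) →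
      ∃ d ∈ cv (S : Subgroup G) P, ∃ w ∈ ⨆ l, Zf M l, v = d * w := by
    intro I
    induction I using Finset.induction_on with
    | empty =>
      intro v hv h0
      refine ⟨v, ?_, 1, one_mem _, by rw [mul_one]⟩
      rw [← M.ker v hv.1]
      exact funext fun j => h0 j (by simp)
    | insert i I hi ih =>
      intro v hv h0
      obtain ⟨a, ha, hae⟩ := exists_Zf q (M := M) i (M.e v i 0)
      have haV := Zf_le_V i ha
      have haL := Zf_LV q ha
      have hi' : M.e a i = M.e v i := by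
        rw [hae]
        exact NatPair.ext2 rfl (hv.2 i).symm
      have e1 : M.e (v * a⁻¹) = M.e v - M.e a := e_div M hv.1 haV
      obtain ⟨d, hd, w, hw, he⟩ := ih (v * a⁻¹) ⟨mul_mem hv.1 (inv_mem haV), fun l => by
        rw [e1, Pi.sub_apply, Pi.sub_apply, hv.2 l, haL.2 l, sub_self]⟩ (fun j hj => by
          rw [e1, Pi.sub_apply]
          by_cases hji : j = i
          · rw [hji, hi', sub_self]
          · rw [h0 j (by rw [Finset.mem_insert, not_or]; exact ⟨hji, hj⟩), Sd.e_Nc M (Zf_le i ha) hji, sub_self])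
      refine ⟨d, hd, w * a, mul_mem hw ((le_iSup (fun l => Zf M l) i) ha), ?_⟩
      rw [← mul_assoc, ← he, inv_mul_cancel_right]
  exact key Finset.univ v hv fun j hj => absurd (Finset.mem_univ j) hj

end main

end Cfsg.Agent.Omega.IId.ThmCQ.Nsp

end

section


/-!
# THEOREM C with `D`, `q ≥ 4`, nonsplit: the data `DatD`

`M : NatK F S P (zl S P) (cv S P) k`, `4 ≤ |F|`: `exists_tor` gives `h : Fin k → G`, a prime `p` and `Tor M t p h`;
`Tor.dat : DatD S (LS M) (Zf M) h p`.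
-/

set_option autoImplicit false
set_option linter.unusedSectionVars false
set_option linter.unusedVariables false

namespace Cfsg.Agent.Omega.IId.ThmCQ.Nsp

open Subgroup Cfsg Cfsg.Agent.ZN Cfsg.Agent.Omega.IId Cfsg.Agent.Omega.ThmC.Four
open Cfsg.Agent.ZN.ChoiceSit hiding zc_le zc_le_zl
open Cfsg.Agent.ZN.ChoiceBase hiding mem_zc
open Cfsg.Agent.Omega.MinPar Cfsg.Agent.Omega.FrameFF Cfsg.Agent.Omega.FFThm
open Cfsg.Agent.MinSimple.VModule (le_normalizer_zl mem_zc zc_le zc_le_zl)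
open Cfsg.Agent.Lib.SL2Mat
open Cfsg.Agent.Omega.NatPair (ap ap_mul ap_one ap_inv_ap ap_ap_inv exists_ap ap_add ap_inj ap_smul)
open Cfsg.Agent.Omega.ThmC (exists_t)
open Cfsg.Agent.Omega.ThmC.FourOf (eq_one_of_pow dg_pow ap_pow_tri mem_norm_of_le tri_eq)
open Cfsg.Agent.Omega.HOne (cv_le conj_mem_zl conj_mem_cv)
open Cfsg.Agent.Omega.IId.Cv (e_div eq_iff e_cv e_mul_cv)
open Cfsg.Agent.Omega.IId.Ns

universe u

variable {G : Type u} [Group G] [Finite G] {F : Type} [Field F] [Finite F] [CharP F 2] {S : Sylow 2 G}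
  {P : Subgroup G} {k : ℕ}

/-- The torus elements. -/
structure Tor (M : NatK F (S : Subgroup G) P (zl (S : Subgroup G) P) (cv (S : Subgroup G) P) k) (t : F) (p : ℕ)
    (h : Fin k → G) : Prop where
  prime : p.Prime
  odd : p ≠ 2
  ne_one : t ≠ 1
  pow : t ^ p = 1
  ne_zero : t ≠ 0
  field : ∀ (τ : F ≃+* F) (n : ℕ), τ ^ 2 ^ n = 1 → τ t = t → τ = 1
  al : ∀ l, Al M l (h l) (dg t ne_zero)
  nor : ∀ l, h l ∈ normalizer (LS M : Set G)

variable {M : NatK F (S : Subgroup G) P (zl (S : Subgroup G) P) (cv (S : Subgroup G) P) k} {t : F} {p : ℕ}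
  {h : Fin k → G}

theorem exists_tor (q : Sit F S P k) : ∃ (t : F) (p : ℕ) (h : Fin k → G), Tor M t p h := by
  classical
  obtain ⟨p, t, hp, hp2, ht1, htp, hf⟩ := exists_t q.hF
  have ht0 : t ≠ 0 := by
    rintro rfl
    rw [zero_pow hp.ne_zero] at htp
    exact zero_ne_one htp
  have key : ∀ l : Fin k, ∃ g : G, g ∈ normalizer (LS M : Set G) ∧ Al M l g (dg t ht0) := by
    intro l
    obtain ⟨g, hg, hgn, hga⟩ := exists_norm (M := M) q (one1 l (dg t ht0)) fun i => by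
      by_cases hi : i = l
      · rw [hi, one1_same, dg_10]
      · rw [one1_ne hi]; simp
    exact ⟨g, hgn, hg, hga⟩
  choose h h1 h2 using key
  exact ⟨t, p, h, ⟨hp, hp2, ht1, htp, ht0, hf, h2, h1⟩⟩

/-- powers of `Al` -/
theorem Al_pow {i : Fin k} {x : G} {B : Matrix.SpecialLinearGroup (Fin 2) F} (hx : Al M i x B) (n : ℕ) :
    Al M i (x ^ n) (B ^ n) := by
  induction n with
  | zero => rw [pow_zero, pow_zero]; exact Al.one i
  | succ n ih => rw [pow_succ, pow_succ]; exact ih.mul hx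

namespace Tor

variable (T : Tor M t p h)

include T

theorem e_line {l : Fin k} {v : G} (hv : v ∈ zl (S : Subgroup G) P) (h1 : M.e v l 1 = 0) :
    M.e (h l * v * (h l)⁻¹) l = t • M.e v l := by
  rw [(T.al l).same hv]
  apply NatPair.ext2
  · rw [NatPair.ap_zero', dg_00, dg_01, h1]; simp
  · rw [NatPair.ap_one', dg_10, dg_11, h1]; simp [h1]

theorem pow_al (l : Fin k) : Al M l (h l ^ p) 1 := by
  refine (Al_pow (T.al l) p).of_eq ?_
  rw [dg_pow]
  apply ext_ent <;> simp [T.pow]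

theorem fpf (q : Sit F S P k) {l : Fin k} {v : G} (hv : v ∈ Zf M l) (hc : h l * v = v * h l) : v = 1 := by
  have h1 := T.e_line (Zf_le_V l hv) (Zf_le_NL l hv).2
  have h2 : h l * v * (h l)⁻¹ = v := by rw [hc]; group
  rw [h2] at h1
  refine eq_one_of_Zf q hv ?_
  have h3 := congrFun h1 0
  simp only [Pi.smul_apply, smul_eq_mul] at h3
  have h4 : (t - 1) * M.e v l 0 = 0 := by linear_combination -h3
  rcases mul_eq_zero.1 h4 with h5 | h5
  · exact absurd (sub_eq_zero.1 h5) T.ne_one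
  · exact h5

end Tor

theorem al_acts {i j : Fin k} {x y : G} {A B : Matrix.SpecialLinearGroup (Fin 2) F} (hx : Al M i x A)
    (hy : Al M j y B) : ActsSL M.e (zl (S : Subgroup G) P) (cv (S : Subgroup G) P) (x * y)
      (fun l => one1 i A l * one1 j B l) := Ns.acts_mul M hx.1 hy.1 hx.2 hy.2


/-- the data -/
theorem Tor.dat (T : Tor M t p h) (q : Sit F S P k) : DatD S (LS M) (Zf M) h p where
  prime := T.prime
  odd := T.odd
  LS := LS_le
  nor := S_le_normalizer_LS q.h.le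
  cL := cent_LS q
  hL := T.nor
  hcomm l m := by
    refine act_of_eq q (mul_mem (T.al l).1 (T.al m).1) (mul_mem (T.nor l) (T.nor m))
      (mul_mem (T.al m).1 (T.al l).1) (mul_mem (T.nor m) (T.nor l)) (al_acts (T.al l) (T.al m)) ?_
    have h1 := al_acts (T.al m) (T.al l)
    have e : (fun j => one1 m (dg t T.ne_zero) j * one1 l (dg t T.ne_zero) j) =
        fun j => one1 l (dg t T.ne_zero) j * one1 m (dg t T.ne_zero) j := by
      by_cases hlm : l = m
      · rw [hlm]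
      funext i
      by_cases hi : i = l
      · have him : i ≠ m := fun h => hlm (hi.symm.trans h)
        rw [one1_ne him, one_mul, mul_one]
      · rw [one1_ne hi, one_mul, mul_one]
    rwa [e] at h1
  hp l := by
    refine act_of_eq q (pow_mem (T.al l).1 p) (pow_mem (T.nor l) p) (one_mem _) (one_mem _)
      (T.pow_al l).2 ?_
    rw [one1_one]
    exact Ns.acts_one M
  perm s hs := by
    classical
    have hsP := q.h.le hs
    obtain ⟨σ, hσ⟩ := M.perm s hsP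
    refine ⟨σ, fun l => ?_⟩
    have hm : Mv M s l (σ l) := fun v hv => hσ v hv l
    obtain ⟨m, hm'⟩ : ∃ m, m = σ l := ⟨_, rfl⟩
    rw [← hm'] at hm ⊢
    obtain ⟨a, c, hx⟩ := conj_Al_line q.h.le hs hm (by simp) (T.al l)
    have hxN : s * h l * s⁻¹ ∈ normalizer (LS M : Set G) :=
      mul_mem (mul_mem (S_le_normalizer_LS q.h.le hs) (T.nor l)) (inv_mem (S_le_normalizer_LS q.h.le hs))
    obtain ⟨A, hA⟩ : ∃ A, A = dg (a : F) a.ne_zero * up c := ⟨_, rfl⟩
    rw [← hA] at hx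
    have htri : ent A 1 0 = 0 := by rw [hA]; simp [ent_mul]
    obtain ⟨x, hxdef⟩ : ∃ x, x = s * h l * s⁻¹ := ⟨_, rfl⟩
    rw [← hxdef] at hx hxN ⊢
    have hAp : A ^ p = 1 := by
      have h1 := Al_pow hx p
      have h2 : ∀ v ∈ zl (S : Subgroup G) P, x ^ p * v * (x ^ p)⁻¹ = v := by
        intro v hv
        have hw : s⁻¹ * v * s ∈ zl (S : Subgroup G) P := by
          have := conj_mem_zl (inv_mem hsP) hv
          rwa [inv_inv] at this
        have h3 := Al.eq_V q.hG S q.h q.hk (T.pow_al l) (Al.one l) hw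
        have e : x ^ p = s * h l ^ p * s⁻¹ := by rw [hxdef, conj_pow]
        calc x ^ p * v * (x ^ p)⁻¹ = s * (h l ^ p * (s⁻¹ * v * s) * (h l ^ p)⁻¹) * s⁻¹ := by rw [e]; group
          _ = s * (1 * (s⁻¹ * v * s) * 1⁻¹) * s⁻¹ := by rw [h3]
          _ = v := by group
      refine ap_inj fun y => ?_
      obtain ⟨v, hv, hvy, -⟩ := Ns.exists_single (M := M) m y
      rw [← hvy, ← h1.same hv, h2 v hv, ap_one]
    have hap : (ent A 0 0) ^ p = 1 := by
      have h1 := ap_pow_tri htri p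
      rw [hAp, ap_one] at h1
      exact (congrFun h1 0).symm
    have ha0 : ent A 0 0 ≠ 0 := by
      intro h0
      rw [h0, zero_pow T.prime.ne_zero] at hap
      exact zero_ne_one hap
    -- `ent A 0 0` is a power of `t`
    have : Fact p.Prime := ⟨T.prime⟩
    have : NeZero p := ⟨T.prime.ne_zero⟩
    have hprim : IsPrimitiveRoot t p := by
      rw [IsPrimitiveRoot.iff_orderOf]
      exact orderOf_eq_prime T.pow T.ne_one
    obtain ⟨r, -, hr⟩ := hprim.eq_pow_of_pow_eq_one hap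
    refine ⟨r, ?_⟩
    obtain ⟨b, hb⟩ : ∃ b, b = ent A 0 1 * ent A 0 0 := ⟨_, rfl⟩
    obtain ⟨u, hu, hub⟩ := M.unip (fun i => if i = m then b else 0)
    have huA : Al M m u (up b) := by
      refine ⟨q.h.le hu, ?_⟩
      have e : (fun i => up (if i = m then b else 0)) = one1 m (up b) := by
        funext i
        by_cases hi : i = m
        · rw [hi, if_pos rfl, one1_same]
        · rw [if_neg hi, one1_ne hi, up_zero]
      rwa [e] at hub
    have huL : u ∈ LS M := mem_LS q.h.le hu hub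
    have huN : u ∈ normalizer (LS M : Set G) := le_normalizer huL
    have h1 : Act (zc (LS M)) x (u * h m ^ r) := by
      refine act_of_eq q hx.1 hxN (mul_mem huA.1 (pow_mem (T.al m).1 r))
        (mul_mem huN (pow_mem (T.nor m) r)) hx.2 ((huA.mul (Al_pow (T.al m) r)).of_eq ?_).2
      rw [dg_pow]
      have h3 := tri_eq htri ha0
      conv_rhs => rw [h3]
      rw [hb]
      congr 1
      apply ext_ent <;> simp [hr]
    intro e he
    rw [h1 e he]
    have h3 : h m ^ r * e * (h m ^ r)⁻¹ ∈ zc (LS M) :=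
      (mem_normalizer_iff.1 (MinSimple.VModule.normalizer_le_normalizer_zc _ (pow_mem (T.nor m) r)) e).1 he
    have h4 := (mem_zc.1 h3).2.1 u huL
    calc u * h m ^ r * e * (u * h m ^ r)⁻¹ = (u * (h m ^ r * e * (h m ^ r)⁻¹)) * u⁻¹ := by group
      _ = ((h m ^ r * e * (h m ^ r)⁻¹) * u) * u⁻¹ := by rw [h4]
      _ = h m ^ r * e * (h m ^ r)⁻¹ := by group
  field s hs hcomm := by
    have hsP := q.h.le hs
    have hconj : ∀ l, ∀ v ∈ zc (LS M), s * (h l * v * (h l)⁻¹) * s⁻¹ = h l * (s * v * s⁻¹) * (h l)⁻¹ := by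
      intro l v hv
      have h1 := hcomm l v hv
      calc s * (h l * v * (h l)⁻¹) * s⁻¹ = (s * h l) * v * (s * h l)⁻¹ := by group
        _ = (h l * s) * v * (h l * s)⁻¹ := h1
        _ = h l * (s * v * s⁻¹) * (h l)⁻¹ := by group
    have hsg : ∀ l, Mv M s l l := by
      intro l
      obtain ⟨m, hm⟩ := exists_Mv (M := M) hsP l
      by_cases hml : m = l
      · rwa [hml] at hm
      exfalso
      obtain ⟨z, hz, hz1⟩ := exists_Zf q (M := M) l 1
      have h1 : s * z * s⁻¹ ∈ Zf M m := (conj_Zf_S q hs hm).1 hz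
      have h2 := Al_comm_Nc q hml (T.al l) (Zf_le m h1)
      have h3 := hconj l z (Zf_le_zc q l hz)
      have h4 : h l * (s * z * s⁻¹) * (h l)⁻¹ = s * z * s⁻¹ := by rw [h2]; group
      rw [h4] at h3
      have h5 : h l * z * (h l)⁻¹ = z := by
        have h6 : s * (h l * z * (h l)⁻¹) = s * z := mul_right_cancel h3
        exact mul_left_cancel h6
      have h6 : z = 1 := T.fpf q hz (by
        calc h l * z = (h l * z * (h l)⁻¹) * h l := by group
          _ = z * h l := by rw [h5])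
      rw [h6, Cv.e_one M] at hz1
      have := congrFun hz1 0
      simp at this
    obtain ⟨b, hb⟩ := acts_of_field q.hG S q.h q.hk (M := M) T.field hs hsg fun l v hv w hw hvj hwj h0 hc => by
      -- replace `v`, `w` by elements of `Zf M l`
      obtain ⟨v', hv', hve⟩ := exists_Zf q (M := M) l (M.e v l 0)
      have hve' : M.e v' l = M.e v l := by
        rw [hve]
        exact NatPair.ext2 rfl h0.symm
      have hv'V := Zf_le_V l hv'
      have h1 : s * v' * s⁻¹ ∈ Zf M l := (conj_Zf_S q hs (hsg l)).1 hv'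
      have h2 := hconj l v' (Zf_le_zc q l hv')
      have h3 := T.e_line hv'V (Zf_le_NL l hv').2
      have h4 := T.e_line (Zf_le_V l h1) (Zf_le_NL l h1).2
      have h5 : M.e (s * w * s⁻¹) l = M.e (s * (h l * v' * (h l)⁻¹) * s⁻¹) l :=
        conj_congr (M := M) hsP (hsg l) hw ((T.al l).V hv'V) (by rw [h3, hve', hc])
      have h6 : M.e (s * v * s⁻¹) l = M.e (s * v' * s⁻¹) l :=
        conj_congr (M := M) hsP (hsg l) hv hv'V hve'.symm
      rw [h5, h2, h4, h6]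
    exact mem_LS q.h.le hs hb
  ZE := Zf_le_zc q
  Zne := Zf_ne_bot q
  Znor l := mem_norm_of_le fun z hz => conj_Zf_Al q (T.al l) (by simp) hz
  Zfpf l z hz hc := T.fpf q hz hc
  Zcent l m hlm z hz := Al_comm_Nc q hlm (T.al m) (Zf_le l hz)
  Zperm s hs l := by
    obtain ⟨m, hm⟩ := exists_Mv (M := M) (q.h.le hs) l
    exact ⟨m, fun v => conj_Zf_S q hs hm⟩
  trans l m := by
    obtain ⟨s, hs, h1⟩ := M.trans l m
    exact ⟨s, hs, fun v => conj_Zf_S q hs h1⟩
  fix z hz := by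
    obtain ⟨d, hd, w, hw, he⟩ := exists_dw q (zc_S_le q hz)
    exact ⟨d, D_le_zc q hd, fun l => (T.al l).D hd, w, hw, he⟩

end Cfsg.Agent.Omega.IId.ThmCQ.Nsp

end

section


/-!
# THEOREM C with `D`, `q ≥ 4`, `V_P` any (nonsplit included): the statements

`M : NatK F S P (zl S P) (cv S P) k`, `4 ≤ |F|`, `W_i := O₂(N_G(Zf M i))`:

* `o2_Zf_le_cent` : `W_i` centralises `Ω₁ Z(S^L)`;
* `o2_Zf_le_LS` : `W_i ≤ S^L`;
* `Nc_le_zc` : `Nc M l ≤ Ω₁ Z(W_i)`, `l ≠ i`;
* `Nc_le_zc_cent` : `Nc M l ≤ Ω₁ Z(O₂(C_G(Zf M i)))`, `l ≠ i`;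
* `mem_Zf_iff_form` : `Zf M i = e(F)`;
* `exists_elt` : an `r`-element acting as `dg t` in the `l`-th factor, `t` of order `r`.
-/

set_option autoImplicit false
set_option linter.unusedSectionVars false
set_option linter.unusedVariables false

namespace Cfsg.Agent.Omega.IId.ThmCQ.Nsp

open Subgroup Cfsg Cfsg.Agent.ZN Cfsg.Agent.Omega.IId Cfsg.Agent.Omega.ThmC.Four
open Cfsg.Agent.ZN.ChoiceSit hiding zc_le zc_le_zl
open Cfsg.Agent.ZN.ChoiceBase hiding mem_zc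
open Cfsg.Agent.Omega.MinPar Cfsg.Agent.Omega.FrameFF Cfsg.Agent.Omega.FFThm
open Cfsg.Agent.MinSimple.VModule (le_normalizer_zl mem_zc zc_le zc_le_zl)
open Cfsg.Agent.Lib.SL2Mat
open Cfsg.Agent.Omega.NatPair (ap ap_mul ap_one ap_inv_ap ap_ap_inv exists_ap ap_add ap_inj ap_smul)
open Cfsg.Agent.Omega.ThmC.FourOf (dg_pow)
open Cfsg.Agent.Omega.HOne (cv_le conj_mem_zl conj_mem_cv)
open Cfsg.Agent.Omega.IId.Cv (e_div eq_iff e_cv e_mul_cv)
open Cfsg.Agent.Omega.IId.Ns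

universe u

/-! ### 2-groups -/

section gen

variable {G : Type u} [Group G] [Finite G]

/-- `O₂(N(Z)) ∩ C(Z) ≤ O₂(C(Z))` -/
theorem o2_norm_inf_cent_le (Z : Subgroup G) :
    o2 (normalizer (Z : Set G)) ⊓ centralizer (Z : Set G) ≤ o2 (centralizer (Z : Set G)) := by
  refine MinSimple.VModule.le_o2 inf_le_right ((MinSimple.VModule.o2_isPGroup _).to_le inf_le_left) ?_
  intro g hg
  have h1 : g ∈ normalizer (Z : Set G) := centralizer_le_normalizer _ hg
  have h2 : g ∈ normalizer (centralizer (Z : Set G) : Set G) := by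
    rw [mem_normalizer_iff_cj, cj_centralizer, cj_eq_of_mem_normalizer h1]
  rw [mem_normalizer_iff_cj, cj_inf, cj_eq_of_mem_normalizer (MinSimple.VModule.le_normalizer_o2 _ h1),
    cj_eq_of_mem_normalizer h2]

/-- `O₂(C(Z)) ≤ O₂(N(Z))` -/
theorem o2_cent_le_o2_norm (Z : Subgroup G) : o2 (centralizer (Z : Set G)) ≤ o2 (normalizer (Z : Set G)) := by
  refine MinSimple.VModule.le_o2 ((MinSimple.VModule.o2_le _).trans (centralizer_le_normalizer _))
    (MinSimple.VModule.o2_isPGroup _) ?_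
  intro g hg
  rw [mem_normalizer_iff_cj, ← ChoiceSit.o2_cj, cj_centralizer, cj_eq_of_mem_normalizer hg]

/-- `A ≤ Ω₁ Z(O₂(N(Z)))`, `A ≤ C(Z)` ==> `A ≤ Ω₁ Z(O₂(C(Z)))` -/
theorem zc_cent_of_norm {Z A : Subgroup G} (hA : A ≤ zc (o2 (normalizer (Z : Set G))))
    (hAZ : A ≤ centralizer (Z : Set G)) : A ≤ zc (o2 (centralizer (Z : Set G))) := by
  intro a ha
  have h1 := mem_zc.1 (hA ha)
  exact mem_zc.2 ⟨o2_norm_inf_cent_le Z ⟨h1.1, hAZ ha⟩, fun x hx => h1.2.1 x (o2_cent_le_o2_norm Z hx), h1.2.2⟩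

end gen

section main

variable {G : Type u} [Group G] [Finite G] {F : Type} [Field F] [Finite F] [CharP F 2] {S : Sylow 2 G}
  {P : Subgroup G} {k : ℕ} {M : NatK F (S : Subgroup G) P (zl (S : Subgroup G) P) (cv (S : Subgroup G) P) k}
  (q : Sit F S P k)

include q

/-- **THEOREM C with `D`**, `q ≥ 4`: `O₂(N_G(Zf M i))` centralises `Ω₁ Z(S^L)`. -/
theorem o2_Zf_le_cent (i : Fin k) : o2 (normalizer (Zf M i : Set G)) ≤ centralizer (zc (LS M) : Set G) := by
  obtain ⟨t, p, h, T⟩ := exists_tor (M := M) q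
  exact (T.dat q).main i

/-- `O₂(N_G(Zf M i)) ≤ S` -/
theorem o2_Zf_le_S (i : Fin k) : o2 (normalizer (Zf M i : Set G)) ≤ (S : Subgroup G) := by
  set E := zc (LS M) with hE
  have h1 := o2_Zf_le_cent q (M := M) i
  have hlE : Zf M i ≤ E := Zf_le_zc q i
  have h2 : centralizer (E : Set G) ≤ normalizer (Zf M i : Set G) :=
    (centralizer_le hlE).trans (centralizer_le_normalizer _)
  have h3 : o2 (normalizer (Zf M i : Set G)) ≤ o2 (centralizer (E : Set G)) :=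
    MinSimple.VModule.le_o2 h1 (MinSimple.VModule.o2_isPGroup _) (h2.trans (MinSimple.VModule.le_normalizer_o2 _))
  refine h3.trans (ThmCQ.le_sylow (MinSimple.VModule.o2_isPGroup _) ?_)
  have h4 : (S : Subgroup G) ≤ normalizer (E : Set G) :=
    (S_le_normalizer_LS q.h.le).trans (MinSimple.VModule.normalizer_le_normalizer_zc _)
  refine h4.trans ?_
  intro g hg
  rw [mem_normalizer_iff_cj, ← ChoiceSit.o2_cj, cj_centralizer, cj_eq_of_mem_normalizer hg]

/-- elements of `S` centralising `Ω₁ Z(S^L)` are in `S^L` -/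
theorem mem_LS_of_cent_zc {s : G} (hs : s ∈ (S : Subgroup G)) (hc : s ∈ centralizer (zc (LS M) : Set G)) :
    s ∈ LS M := by
  obtain ⟨t, p, h, T⟩ := exists_tor (M := M) q
  refine (T.dat q).field s hs fun l e he => ?_
  have h1 : h l * e * (h l)⁻¹ ∈ zc (LS M) :=
    (mem_normalizer_iff.1 (MinSimple.VModule.normalizer_le_normalizer_zc _ (T.nor l)) e).1 he
  have h2 := mem_centralizer_iff.1 hc _ h1
  have h3 := mem_centralizer_iff.1 hc _ he
  calc s * h l * e * (s * h l)⁻¹ = s * (h l * e * (h l)⁻¹) * s⁻¹ := by group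
    _ = h l * e * (h l)⁻¹ := by rw [← h2]; group
    _ = h l * (e * s) * s⁻¹ * (h l)⁻¹ := by group
    _ = h l * (s * e) * s⁻¹ * (h l)⁻¹ := by rw [h3]
    _ = _ := by group

/-- `O₂(N_G(Zf M i)) ≤ S^L` -/
theorem o2_Zf_le_LS (i : Fin k) : o2 (normalizer (Zf M i : Set G)) ≤ LS M := fun _ hx =>
  mem_LS_of_cent_zc q (o2_Zf_le_S q i hx) (o2_Zf_le_cent q i hx)

/-- the elements of `S^L` fix the factors -/
theorem LS_le_Tc (i : Fin k) : LS M ≤ Tc M i := by
  intro s hs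
  obtain ⟨-, hsP, A, hA⟩ := id hs
  exact ⟨⟨LS_le hs, hsP⟩, fun v hv => by rw [hA.1 v hv i, Ns.ap_eq_zero]⟩

theorem o2_Zf_le_cent_D (i : Fin k) : o2 (normalizer (Zf M i : Set G)) ≤ centralizer (cv (S : Subgroup G) P : Set G) :=
  (o2_Zf_le_cent q i).trans (centralizer_le (D_le_zc q))

theorem o2_Zf_comm_LV (i : Fin k) {w v : G} (hw : w ∈ o2 (normalizer (Zf M i : Set G))) (hv : v ∈ LV M) :
    w * v = v * w := (mem_centralizer_iff.1 (o2_Zf_le_cent q i hw) v (LV_le_zc q hv)).symm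

/-- `N_l` is generated by the conjugates of `Zf M l` under `Fc M l`. -/
theorem Nc_le_closure (l : Fin k) : Nc M l ≤ closure {y | ∃ g ∈ Fc M l, ∃ z ∈ Zf M l, y = g * z * g⁻¹} := by
  set K : Subgroup G := closure {y | ∃ g ∈ Fc M l, ∃ z ∈ Zf M l, y = g * z * g⁻¹} with hK
  rw [Nc, closure_le]
  rintro _ ⟨x, hx, v, hv, rfl⟩
  obtain ⟨A, hA⟩ := exists_of_Fc hx
  by_cases h0 : M.e v l = 0
  · have h1 := fix_ker q.hG S q.h q.hk q.hF hA hv h0
    rw [h1, mul_inv_cancel]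
    exact one_mem K
  · obtain ⟨z, hz, hze⟩ := exists_Zf q (M := M) l 1
    have hne : (![1, 0] : Fin 2 → F) ≠ 0 := fun h => by
      have := congrFun h 0
      simp at this
    obtain ⟨B, hB⟩ := exists_ap hne h0
    obtain ⟨g, hg⟩ := exists_Al M l B
    have hzV := Zf_le_V l hz
    have h2 : M.e (g * z * g⁻¹) l = M.e v l := by rw [hg.same hzV, hze, hB]
    have hκV := hg.V hzV
    have h3 : M.e (v * (g * z * g⁻¹)⁻¹) l = 0 := by rw [e_div M hv hκV, Pi.sub_apply, h2, sub_self]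
    have hdV : v * (g * z * g⁻¹)⁻¹ ∈ zl (S : Subgroup G) P := mul_mem hv (inv_mem hκV)
    have h4 := fix_ker q.hG S q.h q.hk q.hF hA hdV h3
    have h5 := comm_mul q hA.1 hdV hκV
    rw [inv_mul_cancel_right, h4, mul_inv_cancel, one_mul] at h5
    rw [h5]
    refine mul_mem (subset_closure ⟨x * g, mul_mem hx hg.mem_Fc, z, hz, by group⟩)
      (inv_mem (subset_closure ⟨g, hg.mem_Fc, z, hz, rfl⟩))

/-- `O₂(N_G(Zf M i))` centralises `Nc M l`, `l ≠ i` -/
theorem Nc_le_cent {i l : Fin k} (hli : l ≠ i) :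
    Nc M l ≤ centralizer (o2 (normalizer (Zf M i : Set G)) : Set G) := by
  refine (Nc_le_closure q l).trans ?_
  rw [closure_le]
  rintro _ ⟨g, hg, z, hz, rfl⟩
  rw [SetLike.mem_coe, mem_centralizer_iff]
  intro w hw
  obtain ⟨B, hB⟩ := exists_of_Fc hg
  have hgN : g ∈ normalizer (Zf M i : Set G) := centralizer_le_normalizer _ (mem_centralizer_iff.2 fun y hy =>
    (Al_comm_Nc q (Ne.symm hli) hB (Zf_le i hy)).symm)
  have hgW := MinSimple.VModule.le_normalizer_o2 _ hgN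
  have hw' : g⁻¹ * w * g ∈ o2 (normalizer (Zf M i : Set G)) := by
    have := (mem_normalizer_iff.1 (inv_mem hgW) w).1 hw
    rwa [inv_inv] at this
  have h2 := o2_Zf_comm_LV q i hw' (Zf_LV q hz)
  calc w * (g * z * g⁻¹) = g * ((g⁻¹ * w * g) * z) * g⁻¹ := by group
    _ = g * (z * (g⁻¹ * w * g)) * g⁻¹ := by rw [h2]
    _ = g * z * g⁻¹ * w := by group

theorem Zf_isPGroup (i : Fin k) : IsPGroup 2 (Zf M i) :=
  S.isPGroup'.to_le ((Zf_le_V i).trans (V_le_S q))

theorem Nc_le_normalizer (i l : Fin k) : Nc M l ≤ centralizer (Zf M i : Set G) := by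
  intro n hn
  rw [mem_centralizer_iff]
  exact fun z hz => V_comm q (Zf_le_V i hz) (Nc_le_zl l hn)

/-- **`Nc M l ≤ Ω₁ Z(O₂(N_G(Zf M i)))`, `l ≠ i`** -/
theorem Nc_le_zc {i l : Fin k} (hli : l ≠ i) : Nc M l ≤ zc (o2 (normalizer (Zf M i : Set G))) := by
  have hch := MinSimple.Basic.char2_normalizer q.hG (Zf_isPGroup q i) (Zf_ne_bot q (M := M) i)
  intro n hn
  have h1 := Nc_le_cent q hli hn
  have h2 : n ∈ o2 (normalizer (Zf M i : Set G)) :=
    hch ⟨centralizer_le_normalizer _ (Nc_le_normalizer q i l hn), h1⟩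
  exact mem_zc.2 ⟨h2, fun w hw => mem_centralizer_iff.1 h1 w hw, by
    rw [pow_two]; exact V_sq q (Nc_le_zl l hn)⟩

/-- **`Nc M l ≤ Ω₁ Z(O₂(C_G(Zf M i)))`, `l ≠ i`** -/
theorem Nc_le_zc_cent {i l : Fin k} (hli : l ≠ i) : Nc M l ≤ zc (o2 (centralizer (Zf M i : Set G))) :=
  zc_cent_of_norm (Nc_le_zc q hli) (Nc_le_normalizer q i l)

theorem o2_cent_Zf_le_Tc (i : Fin k) : o2 (centralizer (Zf M i : Set G)) ≤ Tc M i :=
  (o2_cent_le_o2_norm _).trans ((o2_Zf_le_LS q i).trans (LS_le_Tc q i))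

end main

/-! ### `Zf M i = e(F)` -/

section form

open Cfsg.Agent.Omega.HOne.NSMod Cfsg.Agent.Omega.HOne.NSSide Cfsg.Agent.Omega.HOne.NSPair

/-- the torus acts on `e(F)` -/
theorem torus_e {G : Type*} [Group G] {F : Type*} [Field F] {P V D N : Subgroup G} {π : G → Fin 2 → F}
    {e f g : F → G} (r : Rig P V D π) (φ : Form P V D π e f g N) {x : G} {a : F} (ha : a ≠ 0)
    (hx : Is P V D π x (dg a ha)) (z : F) : x * e z * x⁻¹ = e (a⁻¹ * z) := by
  obtain ⟨y, hy⟩ := r.is_lift (lo ((1 : F) ^ 2))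
  have h1 := φ.act 1 y hy (f z) (φ.fV z)
  rw [φ.fπ] at h1
  have h1' : y * f z * y⁻¹ = e z * g z * f z := by simpa using h1
  have h2 := r.is_mul (r.is_mul hx hy) (r.is_inv hx)
  have e1 : dg a ha * lo ((1 : F) ^ 2) * (dg a ha)⁻¹ = lo ((a⁻¹) ^ 2) := by
    rw [mul_inv_eq_iff_eq_mul]
    apply ext_ent <;> simp [ent_mul]
    field_simp
  rw [e1] at h2
  have hw := r.Vn x hx.mem _ (φ.fV z)
  have h3 := φ.act a⁻¹ _ h2 _ hw
  have h4 : π (x * f z * x⁻¹) 0 = a * z := by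
    rw [hx.act _ (φ.fV z), φ.fπ, ap_dg]; simp
  rw [h4] at h3
  have e2 : (a⁻¹) ^ 2 * (a * z) = a⁻¹ * z := by field_simp
  have e3 : a⁻¹ * (a * z) = z := by field_simp
  rw [e2, e3] at h3
  have h5 := hx.cen _ (φ.gD z)
  have h6 : x * (y * f z * y⁻¹) * x⁻¹ = (x * y * x⁻¹) * (x * f z * x⁻¹) * (x * y * x⁻¹)⁻¹ := by group
  rw [h1', h3] at h6
  have h7 : x * (e z * g z * f z) * x⁻¹ = (x * e z * x⁻¹) * g z * (x * f z * x⁻¹) := by
    calc x * (e z * g z * f z) * x⁻¹ = x * e z * x⁻¹ * (x * g z) * x⁻¹ * (x * f z * x⁻¹) := by group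
      _ = x * e z * x⁻¹ * (g z * x) * x⁻¹ * (x * f z * x⁻¹) := by rw [h5]
      _ = _ := by group
  rw [h7] at h6
  exact mul_right_cancel (mul_right_cancel h6)

variable {G : Type u} [Group G] [Finite G] {F : Type} [Field F] [Finite F] [CharP F 2] {S : Sylow 2 G}
  {P : Subgroup G} {k : ℕ} {M : NatK F (S : Subgroup G) P (zl (S : Subgroup G) P) (cv (S : Subgroup G) P) k}
  (q : Sit F S P k)

include q

theorem mem_Zf_iff_form {i : Fin k} {e f g : F → G} {N : Subgroup G}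
    (φ : Form (Lc M i) (Nc M i) (Uc M i) (Sd.natOver q.hG S q.h M (hω q) i).e e f g N) (z : G) :
    z ∈ Zf M i ↔ ∃ y, z = e y := by
  have r := Sd.rig_of q.hG S q.h M (hω q) i
  have hπ : ∀ v, (Sd.natOver q.hG S q.h M (hω q) i).e v = Sd.pc S M i v := fun v => rfl
  have he0 : ∀ y, M.e (e y) i 1 = 0 := by
    intro y
    have h1 := congrFun (φ.eπ y) 0
    rw [hπ, Sd.pc_zero] at h1
    simpa using h1
  -- `e(F) ≤ Zf`
  have hle : ∀ y, e y ∈ Zf M i := by
    intro y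
    obtain ⟨t, ht, ht1⟩ := exists_omega q.hF
    obtain ⟨x₀, hx₀⟩ := exists_Al M i (dg t ht)
    obtain ⟨x, hxE, hxx⟩ := Sd.exists_Ec q.hG S q.h M (hω q) hx₀.mem_Fc
    obtain ⟨C, hC⟩ := exists_of_Fc hxE.1
    have hCB : C = dg t ht := ap_inj fun z => by
      obtain ⟨v, hv, hvi, -⟩ := Ns.exists_single (M := M) i z
      rw [← hvi, ← hC.same hv, hxx v hv, hx₀.same hv]
    have hx : Al M i x (dg t ht) := hC.of_eq hCB
    have hxL : x ∈ Lc M i := (le_sup_right : Ec M i ≤ Lc M i) hxE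
    have h1 := Sd.is_of_acts q.hG S q.h M (hω q) hxL hx.2
    have e1 : wm (1 : F) one_ne_zero * dg t ht * (wm 1 one_ne_zero)⁻¹ = dg t⁻¹ (inv_ne_zero ht) := by
      rw [mul_inv_eq_iff_eq_mul]
      apply ext_ent <;> simp [ent_mul]
    rw [e1] at h1
    have ht2 : t - 1 ≠ 0 := sub_ne_zero.2 ht1
    have h2 := torus_e r φ (inv_ne_zero ht) h1 (y / (t - 1))
    rw [inv_inv] at h2
    have h3 : x * e (y / (t - 1)) * x⁻¹ * (e (y / (t - 1)))⁻¹ = e y := by
      rw [h2]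
      have h4 : t * (y / (t - 1)) = y + y / (t - 1) := by field_simp; ring
      rw [h4, φ.e_add, mul_inv_cancel_right]
    rw [← h3]
    exact mem_Zf_of hx (φ.eV _) (he0 _)
  refine ⟨fun hz => ?_, fun ⟨y, hy⟩ => hy ▸ hle y⟩
  -- the coordinate
  obtain ⟨y, hy⟩ : ∃ y, y = Sd.pc S M i z 1 := ⟨_, rfl⟩
  refine ⟨y, Zf_inj q hz (hle y) ?_⟩
  have h1 : Sd.pc S M i z = Sd.pc S M i (e y) := by
    have h2 := φ.eπ y
    rw [hπ] at h2
    rw [h2]
    refine NatPair.ext2 ?_ ?_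
    · rw [Sd.pc_zero, (Zf_le_NL i hz).2]; rfl
    · rw [← hy]; rfl
  rw [(Sd.pc_eq_iff S M).1 h1]

end form

/-! ### An `r`-element -/

section elt

variable {G : Type u} [Group G] [Finite G] {F : Type} [Field F] [Finite F] [CharP F 2] {S : Sylow 2 G}
  {P : Subgroup G} {k : ℕ} {M : NatK F (S : Subgroup G) P (zl (S : Subgroup G) P) (cv (S : Subgroup G) P) k}

theorem exists_elt (q : Sit F S P k) (l : Fin k) : ∃ (r j : ℕ) (t : F) (ht : t ≠ 0) (x : G), r.Prime ∧ r ≠ 2 ∧ t ≠ 1 ∧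
    t ^ r = 1 ∧ x ^ r ^ j = 1 ∧ Al M l x (dg t ht) := by
  obtain ⟨t, r, h, T⟩ := exists_tor (M := M) q
  have hr := T.prime
  obtain ⟨j, m, hm, ho⟩ := Nat.exists_eq_pow_mul_and_not_dvd (orderOf_pos (h l)).ne' r hr.ne_one
  refine ⟨r, j, t ^ m, pow_ne_zero m T.ne_zero, h l ^ m, hr, T.odd, ?_, ?_, ?_, ?_⟩
  · intro h1
    have h2 : orderOf t ∣ m := orderOf_dvd_of_pow_eq_one h1
    have : Fact r.Prime := ⟨hr⟩
    rw [orderOf_eq_prime T.pow T.ne_one] at h2
    exact hm h2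
  · rw [← pow_mul, mul_comm, pow_mul, T.pow, one_pow]
  · rw [← pow_mul, mul_comm, ← ho, pow_orderOf_eq_one]
  · have h1 := Al_pow (T.al l) m
    rwa [dg_pow] at h1

end elt

end Cfsg.Agent.Omega.IId.ThmCQ.Nsp

end

end
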